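import Cfsg.Agent.H68.UThree.Final

/-!
# The recognition theorem from the two facts of the character engine
-/

set_option autoImplicit false
set_option linter.unusedSectionVars false

namespace Cfsg.Agent.H68.UThree.Model

open Matrix Cfsg Cfsg.Agent.Unitary

universe u v

variable {F : Type v} [Field F] [Fintype F] {q : ℕ} {G : Type u} [Group G]
  {hF : Fintype.card F = q ^ 2} {z : ℕ} {t : G} {π : GU 2 F q →* G}

theorem Lift.subD_eq (L : Lift hF z t π) (hq : Odd q) :
    subD hF π = Subgroup.centralizer ({t} : Set G) ⊓ Subgroup.centralizer ({iel hF π} : Set G) :=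
  Subgroup.ext fun _ => L.mem_D_iff hq

/-- The centre of `C(t)` lies in `K`. -/
theorem Lift.center_le_subK (L : Lift hF z t π) (hq : Odd q) {g : G}
    (hg : g ∈ Subgroup.centralizer ({t} : Set G))
    (hc : ∀ h ∈ Subgroup.centralizer ({t} : Set G), g * h = h * g) : g ∈ subK hF π hq := by
  have hgD : g ∈ subD hF π := (L.mem_D_iff hq).2
    ⟨hg, Subgroup.mem_centralizer_singleton_iff.2 (hc _ (L.el_mem _))⟩
  obtain ⟨a, b, ha, hb, rfl⟩ := (mem_subD hF π).1 hgD
  have h := L.sel_conj_dg ha hb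
  rw [sel, ← hc _ (L.el_mem _), mul_inv_cancel_right,
    L.el_eq (preserves_dg hF ha hb) (preserves_dg hF hb ha)] at h
  obtain ⟨c, hc', e⟩ := h
  rw [smul_dg, dg_inj] at e
  have ha0 : a ≠ 0 := fun h => by simp [h] at ha
  have hc1 : c = 1 := L.root_sq hc' (mul_right_cancel₀ ha0 (by
    rw [one_mul, mul_assoc, ← e.2, ← e.1]))
  rw [hc1, one_mul] at e
  rw [e.1, dg_self]
  exact (mem_subK hF π hq).2 ⟨b, hb, rfl⟩

/-- **`C(t) ≅ GU₂(q)/Z` gives `PSU₃(q)`, from the index and `PhiLift`.** -/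
theorem psu_of_facts {G : Type u} [Group G] [Fintype G] [IsSimpleGroup G]
    {F : Type v} [Field F] [Fintype F] (q : ℕ) (hq : Odd q) (hF : Fintype.card F = q ^ 2)
    (Z : Subgroup (GU 2 F q)) [Z.Normal] (hZc : Z ≤ Subgroup.center (GU 2 F q))
    (hZo : Odd (Nat.card Z)) (t : G) (ht : orderOf t = 2)
    (e : Subgroup.centralizer ({t} : Set G) ≃* GU 2 F q ⧸ Z)
    (hidx : (Subgroup.centralizer ({t} : Set G)).index = q ^ 2 * (q ^ 2 - q + 1))
    (hΦ : ∀ (i : G) (K : Subgroup G), i ∈ Subgroup.centralizer ({t} : Set G) → orderOf i = 2 →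
      i ≠ t →
      (∀ g ∈ Subgroup.centralizer ({t} : Set G),
        (∀ h ∈ Subgroup.centralizer ({t} : Set G), g * h = h * g) → g ∈ K) →
      PhiLift q t K (Subgroup.centralizer ({t} : Set G) ⊓ Subgroup.centralizer ({i} : Set G))) :
    Nonempty (G ≃* Cfsg.PSU 3 F q) := by
  obtain ⟨π, L⟩ := exists_lift hF Z hZc hZo ht e
  have h2 := two_ne hF hq
  have hi1 : iel hF π ≠ 1 := by
    rw [iel, Ne, L.el_dg_eq_one L.norm_one' L.pow_q_neg_one]
    rintro ⟨h, -⟩
    exact h2 (by linear_combination h)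
  have hi2 : orderOf (iel hF π) = 2 := orderOf_eq_prime (by
    rw [pow_two, iel, L.el_dg_mul L.norm_one' L.pow_q_neg_one L.norm_one' L.pow_q_neg_one,
      neg_mul_neg, one_mul, dg_self, one_smul, el_one]) hi1
  have hit : iel hF π ≠ t := by
    rw [iel, Ne, L.t_dg, L.el_eq L.pres_i (preserves_dg hF L.pow_q_neg_one L.pow_q_neg_one)]
    rintro ⟨c, -, e⟩
    rw [smul_dg, dg_inj] at e
    exact h2 (by linear_combination e.1 - e.2)
  refine L.iso_psu hq ht hidx ?_
  rw [L.subD_eq hq]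
  exact hΦ _ _ (L.el_mem _) hi2 hit fun g hg hc => L.center_le_subK hq hg hc

end Cfsg.Agent.H68.UThree.Model
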