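import Cfsg.Agent.H68.UThree.Norm3Transfer
import Cfsg.Agent.H33.NineTwoQ.Lift

/-!
# `|Z|` divides three

`PhiLift` is the fact wanted from the character engine: some function on `C(t)` supported on elements
whose cyclic group contains `t` lifts to `1 + A - B` with degrees `q ^ 3`, `q ^ 3 + 1`.  A second
norm-three generalised character, supported near the torus element, is orthogonal to it, so one of
`q ^ 3 - 1`, `q ^ 3 + 2` would be a character degree.
-/

set_option autoImplicit false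
set_option linter.unusedSectionVars false
set_option linter.style.haveILetI false

namespace Cfsg.Agent.H68.UThree

open Subgroup Cfsg
open scoped ComplexConjugate

universe u

/-- What is used of the character theory of `C(t)`. -/
def PhiLift {G : Type u} [Group G] [Fintype G] (q : ℕ) (t : G) (K D : Subgroup G) : Prop :=
  ∃ f : centralizer ({t} : Set G) → ℂ, IsClassFunction (centralizer ({t} : Set G)) f ∧
    (∀ x, f x ≠ 0 → t ∈ zpowers (x : G) ∧ ((x : G) ∈ D → (x : G) ∈ K)) ∧
    ∃ A B : IrrCharacter G,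
      indFun (centralizer ({t} : Set G)) f = (fun g => 1 + (A : G → ℂ) g - (B : G → ℂ) g) ∧
      (A : G → ℂ) 1 = ((q ^ 3 : ℕ) : ℂ) ∧ (B : G → ℂ) 1 = ((q ^ 3 + 1 : ℕ) : ℂ)

variable {G : Type u} [Group G] [Fintype G] [IsSimpleGroup G] {p n z d r b : ℕ} {t i s w η : G}
  {K X Hb D : Subgroup G}

/-- `k` -/
local notation "kk" => η ^ r ^ (b - 1)

/-- Two elements of the same order of a finite cyclic group generate the same subgroup. -/
theorem mem_zpowers_of_orderOf_eq {H : Type*} [Group H] [Finite H] {x y a : H}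
    (hx : x ∈ zpowers y) (ha : a ∈ zpowers y) (h : orderOf a = orderOf x) : a ∈ zpowers x := by
  classical
  haveI := Fintype.ofFinite (zpowers y)
  let xH : zpowers y := ⟨x, hx⟩
  have hoe : orderOf xH = orderOf x := (Subgroup.orderOf_coe xH).symm
  have hsub : (Finset.univ.filter fun z : zpowers y => z ∈ Subgroup.zpowers xH) ⊆
      Finset.univ.filter fun z : zpowers y => z ^ orderOf xH = 1 := by
    intro z hz
    simp only [Finset.mem_filter, Finset.mem_univ, true_and] at hz ⊢
    obtain ⟨i, rfl⟩ := hz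
    rw [← zpow_natCast, ← zpow_mul, mul_comm, zpow_mul, zpow_natCast, pow_orderOf_eq_one, one_zpow]
  have hc := IsCyclic.card_pow_eq_one_le (α := zpowers y) (orderOf_pos xH)
  have he := Finset.eq_of_subset_of_card_le hsub (by
    refine hc.trans (le_of_eq ?_)
    rw [← Nat.card_zpowers, Nat.card_eq_fintype_card, Fintype.card_subtype])
  have hmem : (⟨a, ha⟩ : zpowers y) ∈
      Finset.univ.filter fun z : zpowers y => z ∈ Subgroup.zpowers xH := by
    rw [he, Finset.mem_filter]
    exact ⟨Finset.mem_univ _, Subtype.ext (by rw [hoe, ← h]; simpa using pow_orderOf_eq_one a)⟩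
  obtain ⟨i, hi⟩ := mem_zpowers_iff.1 (Finset.mem_filter.1 hmem).2
  exact mem_zpowers_iff.2 ⟨i, by simpa [xH] using congrArg Subtype.val hi⟩

namespace Tor

variable (T : Tor p n z t s K D r b η) (E : Cent p n z d t i s w K X Hb D)
include T E

omit [IsSimpleGroup G] in
theorem s_kk : s * kk * s⁻¹ = kk⁻¹ := by rw [← conj_pow, T.s_inv, inv_pow]

omit [IsSimpleGroup G] in
theorem s_not_mem : s ∉ centralizer ({kk} : Set G) := by
  intro h
  have h1 := T.s_kk E
  rw [mem_cent.1 h, mul_inv_cancel_right] at h1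
  have h2 : orderOf kk ∣ 2 := orderOf_dvd_of_pow_eq_one (by
    rw [pow_two]; nth_rewrite 1 [h1]; rw [inv_mul_cancel])
  rw [T.k_ord E] at h2
  have := Nat.le_of_dvd two_pos h2
  have := T.r_three E
  omega

omit [IsSimpleGroup G] in
theorem s_conj_M {x : G} (hx : x ∈ centralizer ({kk} : Set G)) :
    s⁻¹ * x * s ∈ centralizer ({kk} : Set G) := by
  rw [mem_cent] at hx ⊢
  have h1 : Commute x kk⁻¹ := (show Commute x kk from hx).inv_right
  rw [← T.s_kk E] at h1
  calc s⁻¹ * x * s * kk = s⁻¹ * (x * (s * kk * s⁻¹)) * s := by group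
    _ = s⁻¹ * ((s * kk * s⁻¹) * x) * s := by rw [h1.eq]
    _ = kk * (s⁻¹ * x * s) := by group

/-- The normaliser of `⟨k⟩`. -/
theorem norm_k {g : G} (hg : g * kk * g⁻¹ ∈ zpowers kk) :
    g ∈ centralizer ({kk} : Set G) ∨ s⁻¹ * g ∈ centralizer ({kk} : Set G) := by
  set M := centralizer ({kk} : Set G) with hM
  have hgen : kk ∈ zpowers (g * kk * g⁻¹) := mem_zpowers_of_orderOf_eq hg (mem_zpowers _)
    (orderOf_conj g kk).symm
  have hcomm : ∀ y : G, y * kk = kk * y → (g * y * g⁻¹) * kk = kk * (g * y * g⁻¹) := by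
    intro y hy
    obtain ⟨j, hj⟩ := mem_zpowers_iff.1 hgen
    have h : Commute (g * y * g⁻¹) (g * kk * g⁻¹) := by
      simpa [MulAut.conj_apply] using (Commute.conj_iff g).2 (hy : Commute y kk)
    have := h.zpow_right j
    rwa [hj] at this
  have htM : t ∈ M := T.D_le_M E (T.t_mem_D E)
  obtain ⟨m, hm, e⟩ := T.invol_M E (mem_cent.2 (hcomm t (mem_cent.1 htM)))
    (by rw [orderOf_conj, E.ht])
  set c := m⁻¹ * g with hc
  have hcC : c ∈ centralizer ({t} : Set G) := by
    rw [mem_cent, ← mul_inv_eq_iff_eq_mul, hc]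
    calc m⁻¹ * g * t * (m⁻¹ * g)⁻¹ = m⁻¹ * (g * t * g⁻¹) * m := by group
      _ = t := by rw [← e]; group
  have hiD : i ∈ D := E.mem_D.2 ⟨E.ti.symm, rfl⟩
  have hci : c * i * c⁻¹ ∈ D := by
    refine T.cent_M E (Or.inl rfl) ?_ ?_
    · have h1 : c * i * c⁻¹ = m⁻¹ * (g * i * g⁻¹) * m := by rw [hc]; group
      rw [h1]
      exact mul_mem (mul_mem (inv_mem hm) (mem_cent.2 (hcomm i (mem_cent.1 (T.D_le_M E hiD))))) hm
    · rw [← mul_inv_eq_iff_eq_mul]
      calc c * i * c⁻¹ * t * (c * i * c⁻¹)⁻¹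
          = c * (i * (c⁻¹ * t * c) * i⁻¹) * c⁻¹ := by group
        _ = t := by
          rw [show c⁻¹ * t * c = t by rw [mul_assoc, ← mem_cent.1 hcC]; group, ← E.ti,
            mul_inv_cancel_right, mem_cent.1 hcC, mul_inv_cancel_right]
  have hgc : g = m * c := by rw [hc]; group
  rcases E.D_invol _ hci (by rw [orderOf_conj, E.hi]) with h | h | h
  · exfalso
    apply E.i_ne
    have h' := congrArg (fun x => c⁻¹ * x * c) h
    rw [show c⁻¹ * (c * i * c⁻¹) * c = i by group, mul_assoc, ← mem_cent.1 hcC] at h'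
    rw [h']; group
  · left
    rw [hgc]
    exact mul_mem hm (T.D_le_M E (E.mem_D.2 ⟨mem_cent.1 hcC, mul_inv_eq_iff_eq_mul.1 h⟩))
  · right
    have hd : s⁻¹ * c ∈ D := by
      refine E.mem_D.2 ⟨mem_cent.1 (mul_mem (inv_mem E.s_mem) hcC), mul_inv_eq_iff_eq_mul.1 ?_⟩
      calc s⁻¹ * c * i * (s⁻¹ * c)⁻¹ = s⁻¹ * (c * i * c⁻¹) * s := by group
        _ = i := by rw [h, ← E.s_i]; group
    rw [show s⁻¹ * g = (s⁻¹ * m * s) * (s⁻¹ * c) by rw [hgc]; group]
    exact mul_mem (T.s_conj_M E hm) (T.D_le_M E hd)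

/-- **The contradiction.** -/
theorem false_of_phi (hΦ : PhiLift (p ^ n) t K D) : False := by
  classical
  have hlam := T.exists_lambda E
  unfold PhiLift at hΦ
  set M := centralizer ({kk} : Set G) with hM
  set C := centralizer ({t} : Set G) with hC
  obtain ⟨f0, hf0c, hf0, A, B, hΦe, hA1, hB1⟩ := hΦ
  obtain ⟨l, hsupp, γ, γ', hγ', hlγ', hlγ⟩ := hlam
  let sm : M →* M :=
    { toFun := fun x => ⟨s⁻¹ * x * s, T.s_conj_M E x.2⟩
      map_one' := Subtype.ext (by simp)
      map_mul' := fun x y => Subtype.ext (by simp [mul_assoc]) }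
  set l' : M →* ℂˣ := l.comp sm with hl'
  let f : M → ℂ := fun x => 1 - (l x : ℂ)
  let f' : M → ℂ := fun x => 1 - (l' x : ℂ)
  set Ψ := indFun M f with hΨ
  have hfne : ∀ x : M, f x ≠ 0 → kk ∈ zpowers (x : G) := fun x hx =>
    hsupp x (fun h => hx (by simp [f, h]))
  have hlconj : ∀ x y : M, l (y⁻¹ * x * y) = l x := fun x y => by
    rw [map_mul, map_mul, mul_right_comm, ← map_mul, inv_mul_cancel, map_one, one_mul]
  -- values of `Ψ` on the support
  have hΨv : ∀ x : M, f x ≠ 0 → Ψ x = f x + f' x := by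
    intro x hx
    rw [hΨ, CharInduce.indFun_apply]
    set F : G → ℂ := fun g => extendByZero M f (g⁻¹ * (x : G) * g) with hF
    have h0 : ∀ g : G, g ∉ M → s⁻¹ * g ∉ M → F g = 0 := by
      intro g h1 h2
      simp only [hF]
      by_cases hmem : g⁻¹ * (x : G) * g ∈ M
      · rw [CharInduce.extendByZero_of_mem _ hmem]
        by_contra hne
        have hk1 := hfne _ hne
        have hk2 := hfne x hx
        have hk3 : g * kk * g⁻¹ ∈ zpowers (x : G) := by
          obtain ⟨j, hj⟩ := mem_zpowers_iff.1 hk1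
          refine mem_zpowers_iff.2 ⟨j, ?_⟩
          simp only at hj
          rw [← hj, ← conj_zpow]
          group
        rcases T.norm_k E (mem_zpowers_of_orderOf_eq hk2 hk3 (orderOf_conj g kk)) with h | h
        exacts [h1 h, h2 h]
      · exact CharInduce.extendByZero_of_not_mem _ hmem
    have hF1 : ∀ y : M, F y = f x := fun y => by
      simp only [hF]
      rw [CharInduce.extendByZero_of_mem _ (mul_mem (mul_mem (inv_mem y.2) x.2) y.2)]
      show (1 : ℂ) - (l ⟨_, _⟩ : ℂ) = 1 - (l x : ℂ)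
      rw [show (⟨(y : G)⁻¹ * x * y, mul_mem (mul_mem (inv_mem y.2) x.2) y.2⟩ : M) = y⁻¹ * x * y
        from rfl, hlconj]
    have hF2 : ∀ y : M, F (s * y) = f' x := fun y => by
      simp only [hF]
      have e : (s * (y : G))⁻¹ * x * (s * y) = ((y⁻¹ * sm x * y : M) : G) := by
        show _ = (y : G)⁻¹ * (s⁻¹ * x * s) * y
        group
      rw [e, CharInduce.extendByZero_coe]
      show (1 : ℂ) - (l (y⁻¹ * sm x * y) : ℂ) = 1 - (l (sm x) : ℂ)
      rw [hlconj]
    have hsplit : ∀ g : G, F g =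
        extendByZero M (fun _ => f x) g + extendByZero M (fun _ => f' x) (s⁻¹ * g) := by
      intro g
      by_cases h1 : g ∈ M
      · have h2 : s⁻¹ * g ∉ M := fun h => T.s_not_mem E (by
          have := mul_mem h1 (inv_mem h)
          simpa using this)
        rw [CharInduce.extendByZero_of_mem _ h1, CharInduce.extendByZero_of_not_mem _ h2, add_zero]
        exact hF1 ⟨g, h1⟩
      · by_cases h2 : s⁻¹ * g ∈ M
        · rw [CharInduce.extendByZero_of_mem _ h2, CharInduce.extendByZero_of_not_mem _ h1, zero_add]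
          simpa using hF2 ⟨_, h2⟩
        · rw [CharInduce.extendByZero_of_not_mem _ h1, CharInduce.extendByZero_of_not_mem _ h2,
            add_zero, h0 g h1 h2]
    have e2 : ∑ g : G, extendByZero M (fun _ => f' x) (s⁻¹ * g) =
        ∑ g : G, extendByZero M (fun _ => f' x) g :=
      Fintype.sum_equiv (Equiv.mulLeft s⁻¹) _ _ (fun _ => rfl)
    rw [Finset.sum_congr rfl (fun g _ => hsplit g), Finset.sum_add_distrib, e2,
      CharInduce.sum_extendByZero, CharInduce.sum_extendByZero, Finset.sum_const, Finset.sum_const,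
      Finset.card_univ, ← Nat.card_eq_fintype_card, nsmul_eq_mul, nsmul_eq_mul, ← mul_add,
      ← mul_assoc, inv_mul_cancel₀ (CharInduce.card_ne_zero_complex M), one_mul]
  have hgenf : IsGeneralizedCharacter M f :=
    CharInduce.IsGen.sub (CharInduce.IsGen.of_char CharInduce.IsChar.one)
      (CharInduce.IsGen.of_char (CharInduce.isCharacter_hom l))
  have hgen : IsGeneralizedCharacter G Ψ := CharInduce.IsGen.ind M hgenf
  have hΨ1 : Ψ 1 = 0 := by rw [hΨ, CharInduce.indFun_one]; simp [f]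
  -- the three linear characters
  have irr1 : IsIrrCharacter M (fun _ => (1 : ℂ)) := CharBasic.isIrrCharacter_one
  have irrl := CharInduce.isIrrCharacter_hom l
  have irrl' := CharInduce.isIrrCharacter_hom l'
  have hl1 : (fun x : M => (l x : ℂ)) ≠ fun _ => 1 := fun h => hlγ (by
    rw [show l γ = 1 from Units.ext (congrFun h γ), one_pow])
  have hl'1 : (fun x : M => (l' x : ℂ)) ≠ fun _ => 1 := fun h => hlγ (by
    have e : l' γ = 1 := Units.ext (congrFun h γ)
    rw [hl', MonoidHom.comp_apply, show sm γ = γ' from Subtype.ext hγ'.symm, hlγ', inv_eq_one] at e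
    rw [e, one_pow])
  have hll' : (fun x : M => (l x : ℂ)) ≠ fun x => (l' x : ℂ) := fun h => hlγ (by
    have e : l γ = l' γ := Units.ext (congrFun h γ)
    rw [hl', MonoidHom.comp_apply, show sm γ = γ' from Subtype.ext hγ'.symm, hlγ'] at e
    rw [pow_two]
    nth_rewrite 1 [e]
    rw [inv_mul_cancel])
  have hfeq : f = (fun _ => (1 : ℂ)) - (fun x => (l x : ℂ)) := rfl
  have hf'eq : f' = (fun _ => (1 : ℂ)) - (fun x => (l' x : ℂ)) := rfl
  have hone : classInner Ψ (fun _ => 1) = 1 := by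
    rw [hΨ, CharInduce.classInner_indFun_left M f _ (fun _ _ => rfl), hfeq,
      CharBasic.classInner_sub_left, CharBasic.classInner_irr_self irr1,
      CharBasic.classInner_irr_of_ne irrl irr1 hl1, sub_zero]
  have hnorm : classInner Ψ Ψ = 3 := by
    have h1 : classInner Ψ Ψ = classInner f (fun x : M => Ψ x) := by
      conv_lhs => arg 1; rw [hΨ]
      exact CharInduce.classInner_indFun_left M f _ (CharInduce.IsGen.isClassFunction hgen)
    have h2 : classInner f (fun x : M => Ψ x) = classInner f (f + f') := by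
      simp only [CharBasic.classInner_def]
      congr 1
      refine Finset.sum_congr rfl fun x _ => ?_
      by_cases hx : f x = 0
      · simp [hx]
      · rw [hΨv x hx]; rfl
    rw [h1, h2, CharBasic.classInner_add_right, hfeq, hf'eq]
    simp only [CharBasic.classInner_sub_left, CharBasic.classInner_sub_right]
    rw [CharBasic.classInner_irr_self irr1, CharBasic.classInner_irr_self irrl,
      CharBasic.classInner_irr_of_ne irrl irr1 hl1, CharBasic.classInner_irr_of_ne irr1 irrl hl1.symm,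
      CharBasic.classInner_irr_of_ne irr1 irrl' hl'1.symm,
      CharBasic.classInner_irr_of_ne irrl irrl' hll']
    norm_num
  obtain ⟨U, W, hU, hW, hUW, hΨe, u, hu, hw⟩ :=
    H33.NineTwoQ.exists_one_add_sub hgen hnorm hone hΨ1
  -- orthogonality
  have horth : classInner (indFun C f0) Ψ = 0 := by
    rw [CharInduce.classInner_indFun_left C f0 Ψ (CharInduce.IsGen.isClassFunction hgen),
      CharBasic.classInner_def]
    refine mul_eq_zero_of_right _ (Finset.sum_eq_zero fun x _ => ?_)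
    by_cases hx : f0 x = 0
    · simp [hx]
    obtain ⟨htx, hxK⟩ := hf0 x hx
    suffices h : Ψ x = 0 by simp [h]
    rw [hΨ, CharInduce.indFun_apply]
    refine mul_eq_zero_of_right _ (Finset.sum_eq_zero fun g _ => ?_)
    by_cases hmem : g⁻¹ * (x : G) * g ∈ M
    swap
    · exact CharInduce.extendByZero_of_not_mem _ hmem
    rw [CharInduce.extendByZero_of_mem _ hmem]
    by_contra hne
    have hk : kk ∈ zpowers (g⁻¹ * (x : G) * g) := hfne _ hne
    -- a conjugate of `x` in `M` lies in the torus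
    have hjm : g⁻¹ * t * g ∈ M := by
      obtain ⟨j, hj⟩ := mem_zpowers_iff.1 htx
      have e : (g⁻¹ * (x : G) * g) ^ j = g⁻¹ * t * g := by
        have := conj_zpow (i := j) (a := g⁻¹) (b := (x : G))
        rw [inv_inv] at this
        rw [this, hj]
      rw [← e]
      exact zpow_mem hmem j
    obtain ⟨m, hm, e⟩ := T.invol_M E hjm (by
      have := orderOf_conj g⁻¹ t
      rw [inv_inv] at this
      rw [this, E.ht])
    have hyC : g * m ∈ C := by
      rw [hC, mem_cent, ← mul_inv_eq_iff_eq_mul]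
      calc g * m * t * (g * m)⁻¹ = g * (m * t * m⁻¹) * g⁻¹ := by group
        _ = t := by rw [e]; group
    set x' : C := ⟨g * m, hyC⟩⁻¹ * x * ⟨g * m, hyC⟩ with hx'
    have hx'v : (x' : G) = m⁻¹ * (g⁻¹ * (x : G) * g) * m := by
      rw [hx']
      show (g * m)⁻¹ * (x : G) * (g * m) = _
      group
    have hf' : f0 x' ≠ 0 := by
      have := hf0c x ⟨g * m, hyC⟩⁻¹
      rw [inv_inv] at this
      rwa [hx', this]
    have hx'D : (x' : G) ∈ D :=
      T.cent_M E (Or.inl rfl) (hx'v ▸ mul_mem (mul_mem (inv_mem hm) hmem) hm) (mem_cent.1 x'.2)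
    have hk' : kk ∈ zpowers (x' : G) := by
      obtain ⟨j, hj⟩ := mem_zpowers_iff.1 hk
      refine mem_zpowers_iff.2 ⟨j, ?_⟩
      have := conj_zpow (i := j) (a := m⁻¹) (b := g⁻¹ * (x : G) * g)
      rw [inv_inv] at this
      rw [hx'v, this, hj, mul_assoc, ← mem_cent.1 hm, inv_mul_cancel_left]
    have hkK : kk ∈ K := (zpowers_le.2 ((hf0 x' hf').2 hx'D)) hk'
    have hk1 : kk ≠ 1 := fun h => by
      have := T.k_ord E
      rw [h, orderOf_one] at this
      exact T.rprime.ne_one this.symm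
    apply T.s_not_mem E
    rw [E.cent_K hkK hk1]
    exact E.s_mem
  -- degrees
  have hq := E.q_ge
  set q := p ^ n with hq'
  have hq27 : 27 ≤ q ^ 3 := by
    have := Nat.pow_le_pow_left hq 3
    simpa using this
  let T1 : IrrCharacter G := H36.SelfCentral.triv G
  have hT : ((T1 : IrrCharacter G) : G → ℂ) = fun _ => 1 := rfl
  have hne1 : ∀ (χ : IrrCharacter G) (m : ℕ), (χ : G → ℂ) 1 = m → m ≠ 1 → χ ≠ T1 := by
    intro χ m h1 h2 e
    rw [e, hT] at h1
    exact h2 (by simp only at h1; exact_mod_cast h1.symm)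
  have hAT := hne1 A _ hA1 (by omega)
  have hBT := hne1 B _ hB1 (by omega)
  have e0 : indFun C f0 = (T1 : G → ℂ) + (A : G → ℂ) - (B : G → ℂ) := hΦe
  have e1 : Ψ = (T1 : G → ℂ) + (U : G → ℂ) - (W : G → ℂ) := hΨe
  have hU' : T1 ≠ U := Ne.symm hU
  have hW' : T1 ≠ W := Ne.symm hW
  rw [e0, e1] at horth
  simp only [CharBasic.classInner_sub_left, CharBasic.classInner_sub_right,
    CharBasic.classInner_add_left, CharBasic.classInner_add_right,
    CharBasic.classInner_irrCharacter, if_pos, if_neg hU', if_neg hW', if_neg hAT, if_neg hBT]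
    at horth
  have key : A = W ∨ B = U := by
    by_contra hcon
    push Not at hcon
    simp only [if_neg hcon.1, if_neg hcon.2] at horth
    split_ifs at horth <;> norm_num at horth
  have hcard : Nat.card G = q ^ 3 * (q + 1) * (q - 1) * (q ^ 2 - q + 1) * d := by
    rw [← (centralizer ({t} : Set G)).card_mul_index, E.card_C, E.index_C,
      show q ^ 2 - 1 = (q + 1) * (q - 1) by simpa using Nat.sq_sub_sq q 1]
    ring
  have hd : d ∣ q + 1 := ⟨z, by rw [← E.zd]; ring⟩
  have hdeg : ∀ (χ : IrrCharacter G) (m : ℕ), (χ : G → ℂ) 1 = m → m ∣ Nat.card G := by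
    intro χ m hm
    obtain ⟨m', -, hm', hdvd, -⟩ := CharBasic.IsIrr.degree_dvd χ.2
    rw [hm'] at hm
    exact (Nat.cast_inj.1 hm) ▸ hdvd
  -- as integers
  obtain ⟨d', hd'⟩ := hd
  have hqZ : (q : ℤ) + 1 = d * d' := by exact_mod_cast hd'
  have hsub : ((q ^ 2 - q + 1 : ℕ) : ℤ) = (q : ℤ) ^ 2 - q + 1 := by
    rw [Nat.cast_add, Nat.cast_sub (Nat.le_self_pow two_ne_zero q)]
    push_cast; ring
  have hcZ : (Nat.card G : ℤ) = ((q : ℤ) ^ 3 * ((q : ℤ) ^ 3 + 1)) * (((q : ℤ) - 1) * d) := by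
    rw [hcard]
    push_cast [hsub, Nat.cast_sub (show 1 ≤ q by omega)]
    ring
  rcases key with h | h
  · -- degree `q ^ 3 - 1`
    subst h
    rw [hA1] at hw
    have hu' : u = q ^ 3 - 1 := by
      have : q ^ 3 = u + 1 := by exact_mod_cast hw
      omega
    have hdvd := hdeg U u hu
    rw [hu'] at hdvd
    -- hence `q ^ 2 + q + 1` divides `q - 1` times a divisor of `q + 1`
    have h1 : ((q : ℤ) ^ 2 + q + 1) ∣ ((q : ℤ) - 1) * d := by
      have h2 : ((q : ℤ) ^ 2 + q + 1) ∣ (Nat.card G : ℤ) := by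
        refine dvd_trans (Dvd.intro ((q : ℤ) - 1) ?_) (Int.natCast_dvd_natCast.2 hdvd)
        rw [Nat.cast_sub (by omega)]
        push_cast; ring
      rw [hcZ] at h2
      refine IsCoprime.dvd_of_dvd_mul_left ?_ h2
      -- inverses of `q ^ 3` and `q ^ 3 + 1` modulo `q ^ 2 + q + 1`
      have c1 : IsCoprime ((q : ℤ) ^ 2 + q + 1) ((q : ℤ) ^ 3) := ⟨-((q : ℤ) - 1), 1, by ring⟩
      have c2 : IsCoprime ((q : ℤ) ^ 2 + q + 1) ((q : ℤ) ^ 3 + 1) := by
        have hodd : IsCoprime ((q : ℤ) ^ 2 + q + 1) 2 := by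
          obtain ⟨a, ha⟩ := E.q_odd
          refine ⟨1, -(2 * (a : ℤ) ^ 2 + 3 * a + 1), ?_⟩
          rw [show (q : ℤ) = 2 * a + 1 by exact_mod_cast ha]
          ring
        obtain ⟨x, y, hxy⟩ := hodd
        exact ⟨x - y * ((q : ℤ) - 1), y, by linear_combination hxy⟩
      exact c1.mul_right c2
    have hlt : ((q : ℤ) - 1) * d < (q : ℤ) ^ 2 + q + 1 := by
      have hd1 : (d : ℤ) ≤ q + 1 := by
        exact_mod_cast Nat.le_of_dvd (by omega) (Dvd.intro d' hd'.symm)
      nlinarith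
    have hpos : 0 < ((q : ℤ) - 1) * d := by
      have := E.d_pos
      exact mul_pos (by omega) (by exact_mod_cast this)
    exact absurd (Int.le_of_dvd hpos h1) (by omega)
  · -- degree `q ^ 3 + 2`
    subst h
    rw [hB1] at hu
    have hu' : u = q ^ 3 + 1 := by exact_mod_cast hu.symm
    have hdvd := hdeg W _ hw
    rw [hu'] at hdvd
    have h1 : ((q : ℤ) ^ 3 + 2) ∣ ((q : ℤ) - 1) * d := by
      have h2 : ((q : ℤ) ^ 3 + 2) ∣ (Nat.card G : ℤ) := by
        have := Int.natCast_dvd_natCast.2 hdvd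
        push_cast at this
        rwa [show (q : ℤ) ^ 3 + 1 + 1 = (q : ℤ) ^ 3 + 2 by ring] at this
      rw [hcZ] at h2
      refine IsCoprime.dvd_of_dvd_mul_left ?_ h2
      have c1 : IsCoprime ((q : ℤ) ^ 3 + 2) ((q : ℤ) ^ 3) := by
        obtain ⟨a, ha⟩ := E.q_odd.pow (n := 3)
        refine ⟨-(a : ℤ), (a : ℤ) + 1, ?_⟩
        rw [show (q : ℤ) ^ 3 = 2 * a + 1 by exact_mod_cast ha]
        ring
      have c2 : IsCoprime ((q : ℤ) ^ 3 + 2) ((q : ℤ) ^ 3 + 1) := ⟨1, -1, by ring⟩
      exact c1.mul_right c2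
    have hlt : ((q : ℤ) - 1) * d < (q : ℤ) ^ 3 + 2 := by
      have hd1 : (d : ℤ) ≤ q + 1 := by
        exact_mod_cast Nat.le_of_dvd (by omega) (Dvd.intro d' hd'.symm)
      have hq3 : (3 : ℤ) ≤ q := by exact_mod_cast hq
      nlinarith
    have hpos : 0 < ((q : ℤ) - 1) * d := by
      have := E.d_pos
      exact mul_pos (by omega) (by exact_mod_cast this)
    exact absurd (Int.le_of_dvd hpos h1) (by omega)

end Tor

/-- **`|Z|` is one or three.** -/
theorem Cent.z_dvd_three (E : Cent p n z d t i s w K X Hb D) (hΦ : PhiLift (p ^ n) t K D) :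
    z ∣ 3 := by
  by_contra h
  have hz : z ≠ 0 := by
    intro h0
    have := E.z_odd
    rw [h0] at this
    exact Nat.not_odd_zero this
  obtain ⟨r, hr, hdvd, hbig⟩ : ∃ r, r.Prime ∧ r ∣ z ∧ (r = 3 → 9 ∣ z) := by
    by_cases h9 : 9 ∣ z
    · exact ⟨3, Nat.prime_three, dvd_trans ⟨3, rfl⟩ h9, fun _ => h9⟩
    · by_cases h3 : 3 ∣ z
      · obtain ⟨c, rfl⟩ := h3
        have hc : c ≠ 1 := fun e => h (by rw [e])
        obtain ⟨r, hr, hrc⟩ := Nat.exists_prime_and_dvd hc
        exact ⟨r, hr, hrc.mul_left 3, fun e => absurd (mul_dvd_mul_left 3 (e ▸ hrc)) h9⟩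
      · have hz1 : z ≠ 1 := fun e => h (e ▸ one_dvd 3)
        obtain ⟨r, hr, hrz⟩ := Nat.exists_prime_and_dvd hz1
        exact ⟨r, hr, hrz, fun e => absurd (e ▸ hrz) h3⟩
  obtain ⟨b, c, hnd, hc⟩ := Nat.exists_eq_pow_mul_and_not_dvd hz r hr.ne_one
  have hnd' : ¬ r ^ (b + 1) ∣ z := by
    rw [hc, pow_succ]
    exact fun h' => hnd (Nat.dvd_of_mul_dvd_mul_left (pow_pos hr.pos b) h')
  have hb : 1 ≤ b := by
    by_contra h'
    obtain rfl : b = 0 := by omega
    exact hnd' (by simpa using hdvd)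
  obtain ⟨η, hT⟩ := E.exists_tor hr hb (hc ▸ Dvd.intro c rfl) hnd' (fun e => by
    by_contra h'
    subst e
    obtain rfl : b = 1 := by omega
    exact hnd' (hbig rfl))
  exact hT.false_of_phi E hΦ

end Cfsg.Agent.H68.UThree
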