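import Mathlib
import Cfsg.Agent.Cores.GlaubermanZStar
import Cfsg.Agent.S1221
import Cfsg.Agent.H92.Odd

/-!
# An involution centraliser of type `GU₂(q)/Z`: basic local facts

`Cent` records what is used of the centraliser `C` of the involution `t`.  We prove that two
commuting involutions are exchanged in `G` and that non-trivial elements of the centre `K` of `C`
have centraliser `C`.
-/

set_option autoImplicit false
set_option linter.unusedSectionVars false
set_option linter.style.haveILetI false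

namespace Cfsg.Agent.H68.UThree

open Subgroup

universe u

/-- The data read off from an isomorphism of the centraliser of `t` with `GU₂(q)/Z`, `q = p ^ n`,
`|Z| = z`, `z * d = q + 1`. -/
structure Cent {G : Type u} [Group G] (p n z d : ℕ) (t i s w : G)
    (K X Hb D : Subgroup G) : Prop where
  prime : p.Prime
  odd : p ≠ 2
  one_le : 1 ≤ n
  z_odd : Odd z
  zd : z * d = p ^ n + 1
  ht : orderOf t = 2
  card_C : Nat.card (centralizer ({t} : Set G)) = p ^ n * ((p ^ n) ^ 2 - 1) * d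
  index_C : (centralizer ({t} : Set G)).index = (p ^ n) ^ 2 * ((p ^ n) ^ 2 - p ^ n + 1)
  K_le : K ≤ centralizer ({t} : Set G)
  K_comm : ∀ k ∈ K, ∀ g ∈ centralizer ({t} : Set G), k * g = g * k
  K_cyclic : IsCyclic K
  card_K : Nat.card K = d
  t_K : t ∈ K
  X_le : X ≤ centralizer ({t} : Set G)
  card_X : Nat.card X = p ^ n
  X_comm : ∀ a ∈ X, ∀ b ∈ X, a * b = b * a
  Hb_le : Hb ≤ centralizer ({t} : Set G)
  Hb_cyclic : IsCyclic Hb
  card_Hb : Nat.card Hb = (p ^ n - 1) * d
  K_Hb : K ≤ Hb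
  Hb_X : ∀ h ∈ Hb, ∀ x ∈ X, h * x * h⁻¹ ∈ X
  cent_X : ∀ g ∈ centralizer ({t} : Set G), (∀ x ∈ X, g * x = x * g) →
    ∃ x ∈ X, ∃ k ∈ K, g = x * k
  norm_X : ∀ g ∈ centralizer ({t} : Set G), (∀ x ∈ X, g * x * g⁻¹ ∈ X) →
    ∃ x ∈ X, ∃ h ∈ Hb, g = x * h
  w_mem : w ∈ centralizer ({t} : Set G)
  w_Hb : ∀ h ∈ Hb, w * h * w⁻¹ ∈ Hb
  w_sq : w * w ∈ Hb
  X_opp : ∀ x ∈ X, w * x * w⁻¹ ∈ X → x = 1
  t_gen : t ∈ Subgroup.closure ({x : G | x ∈ X} ∪ {y : G | w⁻¹ * y * w ∈ X})
  i_mem : i ∈ centralizer ({t} : Set G)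
  hi : orderOf i = 2
  i_ne : i ≠ t
  invol : ∀ j ∈ centralizer ({t} : Set G), orderOf j = 2 →
    j = t ∨ ∃ c ∈ centralizer ({t} : Set G), c * i * c⁻¹ = j
  D_eq : D = centralizer ({t} : Set G) ⊓ centralizer ({i} : Set G)
  D_comm : ∀ a ∈ D, ∀ b ∈ D, a * b = b * a
  card_D : Nat.card D = (p ^ n + 1) * d
  D_invol : ∀ j ∈ D, orderOf j = 2 → j = t ∨ j = i ∨ j = t * i
  D_odd : ∀ W : Subgroup G, W ≤ centralizer ({t} : Set G) → Odd (Nat.card W) →
    (∀ e ∈ D, ∀ x ∈ W, e * x * e⁻¹ ∈ W) → W ≤ D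
  s_mem : s ∈ centralizer ({t} : Set G)
  s_i : s * i * s⁻¹ = t * i
  /-- the part of the torus belonging to a prime dividing `z` -/
  torus : ∀ r : ℕ, r.Prime → ∀ b : ℕ, 1 ≤ b → r ^ b ∣ z → ¬ r ^ (b + 1) ∣ z →
    ∃ η ∈ D, orderOf η = r ^ b ∧ (∀ e ∈ D, e ^ ((p ^ n + 1) / r ^ b) ∈ zpowers η) ∧
      (∃ α ∈ D, α ^ ((p ^ n + 1) / r ^ b) = η) ∧ s * η * s⁻¹ = η⁻¹ ∧
      (∀ g ∈ centralizer ({t} : Set G), g * η ^ r ^ (b - 1) = η ^ r ^ (b - 1) * g → g ∈ D) ∧
      ∀ u ∈ D, u ^ r = 1 → ∃ j : ℕ, ∃ k0 ∈ K, u = (η ^ r ^ (b - 1)) ^ j * k0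

theorem mem_cent {G : Type*} [Group G] {a g : G} :
    g ∈ centralizer ({a} : Set G) ↔ g * a = a * g := mem_centralizer_singleton_iff

theorem conj_mem_cent {G : Type*} [Group G] {a g x : G} (hx : x ∈ centralizer ({a} : Set G)) :
    g * x * g⁻¹ ∈ centralizer ({g * a * g⁻¹} : Set G) := by
  rw [mem_cent] at hx ⊢
  calc g * x * g⁻¹ * (g * a * g⁻¹) = g * (x * a) * g⁻¹ := by group
    _ = g * (a * x) * g⁻¹ := by rw [hx]
    _ = g * a * g⁻¹ * (g * x * g⁻¹) := by group

theorem mem_conj_cent {G : Type*} [Group G] {a g x : G}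
    (hx : x ∈ centralizer ({g * a * g⁻¹} : Set G)) : g⁻¹ * x * g ∈ centralizer ({a} : Set G) := by
  have h := conj_mem_cent (g := g⁻¹) hx
  simpa [mul_assoc] using h

theorem orderOf_conj {G : Type*} [Group G] (g a : G) : orderOf (g * a * g⁻¹) = orderOf a := by
  rw [← MulAut.conj_apply, MulEquiv.orderOf_eq]

variable {G : Type u} [Group G] [Finite G] {p n z d : ℕ} {t i s w : G} {K X Hb D : Subgroup G}

namespace Cent

variable (E : Cent p n z d t i s w K X Hb D)
include E

theorem t_mem : t ∈ centralizer ({t} : Set G) := mem_cent.2 rfl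

theorem tt : t * t = 1 := by rw [← pow_two, ← E.ht, pow_orderOf_eq_one]

theorem ii : i * i = 1 := by rw [← pow_two, ← E.hi, pow_orderOf_eq_one]

theorem ti : t * i = i * t := (mem_cent.1 E.i_mem).symm

theorem D_le : D ≤ centralizer ({t} : Set G) := E.D_eq ▸ inf_le_left

theorem mem_D {g : G} : g ∈ D ↔ g * t = t * g ∧ g * i = i * g := by
  rw [E.D_eq, Subgroup.mem_inf, mem_cent, mem_cent]

theorem q_odd : Odd (p ^ n) := (E.prime.odd_of_ne_two E.odd).pow

theorem q_ge : 3 ≤ p ^ n := by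
  have h2 := E.prime.two_le
  have := E.odd
  exact (show 3 ≤ p by omega).trans (Nat.le_self_pow (by have := E.one_le; omega) p)

theorem d_pos : 0 < d := by
  rcases Nat.eq_zero_or_pos d with h | h
  · have := E.zd; rw [h, mul_zero] at this; omega
  · exact h

theorem odd_index : Odd (centralizer ({t} : Set G)).index := by
  rw [E.index_C]
  refine Odd.mul E.q_odd.pow ?_
  obtain ⟨a, ha⟩ := E.q_odd
  have h : (p ^ n) ^ 2 - p ^ n = 2 * (a * (2 * a + 1)) := by
    rw [ha]
    have e : (2 * a + 1) ^ 2 = 2 * (a * (2 * a + 1)) + (2 * a + 1) := by ring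
    omega
  exact ⟨_, by rw [h]⟩

/-- A Sylow `2`-subgroup of a subgroup containing `C` lies in `C` after conjugation. -/
theorem exists_conj_mem {M : Subgroup G} (hM : centralizer ({t} : Set G) ≤ M) {x : G}
    (hx : x ∈ M) (hx2 : orderOf x = 2) : ∃ m ∈ M, m * x * m⁻¹ ∈ centralizer ({t} : Set G) := by
  haveI := Fact.mk Nat.prime_two
  obtain ⟨S⟩ := (inferInstance : Nonempty (Sylow 2 ((centralizer ({t} : Set G)).subgroupOf M)))
  have hodd : ¬ 2 ∣ ((centralizer ({t} : Set G)).subgroupOf M).index := by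
    intro h
    have h' : 2 ∣ (centralizer ({t} : Set G)).relIndex M := h
    exact E.odd_index.not_two_dvd_nat (h'.trans (Subgroup.relIndex_dvd_index_of_le hM))
  obtain ⟨P, hP⟩ := (S.isPGroup'.map ((centralizer ({t} : Set G)).subgroupOf M).subtype).exists_le_sylow
  have hcard : Nat.card ((S : Subgroup _).map ((centralizer ({t} : Set G)).subgroupOf M).subtype) =
      2 ^ (Nat.card M).factorization 2 := by
    rw [Subgroup.card_map_of_injective (Subgroup.subtype_injective _), S.card_eq_multiplicity,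
      ← Subgroup.card_mul_index ((centralizer ({t} : Set G)).subgroupOf M),
      Nat.factorization_mul Nat.card_pos.ne' Subgroup.index_ne_zero_of_finite,
      Finsupp.add_apply, Nat.factorization_eq_zero_of_not_dvd hodd, add_zero]
  have hSP : (S : Subgroup _).map ((centralizer ({t} : Set G)).subgroupOf M).subtype = P :=
    Subgroup.eq_of_le_of_card_ge hP (by rw [hcard, P.card_eq_multiplicity])
  obtain ⟨Q, hQ⟩ := (IsPGroup.of_card (G := zpowers (⟨x, hx⟩ : M)) (n := 1)
    (by rw [Nat.card_zpowers, Subgroup.orderOf_mk, hx2, pow_one])).exists_le_sylow (p := 2)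
  obtain ⟨m, hm⟩ := MulAction.exists_smul_eq M Q P
  refine ⟨m, m.2, ?_⟩
  have h1 : m * ⟨x, hx⟩ * m⁻¹ ∈ (P : Subgroup M) := by
    rw [← hm]
    exact ⟨⟨x, hx⟩, hQ (mem_zpowers _), rfl⟩
  rw [← hSP] at h1
  obtain ⟨y, -, hy⟩ := h1
  have := y.2
  rw [Subgroup.mem_subgroupOf] at this
  have e : ((y : M) : G) = m * x * (m : G)⁻¹ := by
    have := congrArg Subtype.val hy
    simpa using this
  rwa [e] at this

variable [IsSimpleGroup G]

theorem center_eq_bot : center G = ⊥ := by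
  rcases IsSimpleGroup.eq_bot_or_eq_top_of_normal (center G) inferInstance with h | h
  · exact h
  exfalso
  haveI : IsMulCommutative G := ⟨⟨fun a b => (mem_center_iff.1 (h ▸ mem_top b) a)⟩⟩
  letI : CommGroup G := { (inferInstance : Group G) with mul_comm := mul_comm' }
  haveI := Fact.mk (IsSimpleGroup.prime_card (α := G))
  have h1 := E.card_C
  have h2 : centralizer ({t} : Set G) = ⊤ := eq_top_iff.2 fun g _ => mem_cent.2 (mul_comm g t)
  have h3 : orderOf t ∣ Nat.card G := orderOf_dvd_natCard t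
  rw [E.ht, Nat.prime_dvd_prime_iff_eq Nat.prime_two IsSimpleGroup.prime_card] at h3
  rw [h2, Subgroup.card_top, ← h3] at h1
  have h4 := E.q_ge
  have h5 : 8 ≤ (p ^ n) ^ 2 - 1 := by
    have : 3 ^ 2 ≤ (p ^ n) ^ 2 := Nat.pow_le_pow_left h4 2
    omega
  have h6 := E.d_pos
  have h7 : 3 * 8 ≤ p ^ n * ((p ^ n) ^ 2 - 1) * d :=
    (Nat.mul_le_mul h4 h5).trans (Nat.le_mul_of_pos_right _ h6)
  omega

theorem oddCore_eq_bot : Cfsg.oddCore G = ⊥ := by
  haveI : (Cfsg.oddCore G).Characteristic := Cores.pPrimeCore_characteristic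
  rcases IsSimpleGroup.eq_bot_or_eq_top_of_normal (Cfsg.oddCore G) inferInstance with h | h
  · exact h
  exfalso
  have h1 : Odd (Nat.card (Cfsg.oddCore G)) := Cores.odd_card_oddCore
  rw [h, Subgroup.card_top] at h1
  have h3 : orderOf t ∣ Nat.card G := orderOf_dvd_natCard t
  rw [E.ht] at h3
  exact h1.not_two_dvd_nat h3

/-- The involutions `t` and `i` are exchanged. -/
theorem exists_swap : ∃ v : G, v * t * v⁻¹ = i ∧ v * i * v⁻¹ = t := by
  haveI := Fact.mk Nat.prime_two
  obtain ⟨g, hg, hne⟩ : ∃ g : G, g * t * g⁻¹ ∈ centralizer ({t} : Set G) ∧ g * t * g⁻¹ ≠ t := by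
    by_contra hall
    push Not at hall
    obtain ⟨S⟩ := (inferInstance : Nonempty (Sylow 2 G))
    obtain ⟨P, hP⟩ := (IsPGroup.of_card (G := zpowers t) (n := 1)
      (by rw [Nat.card_zpowers, E.ht, pow_one])).exists_le_sylow (p := 2)
    -- `t` is isolated
    have hiso : ∀ g : G, g * t * g⁻¹ ∈ P → g * t * g⁻¹ = t := by
      intro g hg
      obtain ⟨m, -, hm⟩ := E.exists_conj_mem (M := ⊤) le_top (mem_top (g * t * g⁻¹))
        (by rw [orderOf_conj, E.ht])
      have hconj : ∀ h : G, Commute (h * t * h⁻¹) t → h * t * h⁻¹ = t := fun h hh =>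
        hall h (mem_cent.2 hh)
      -- commuting conjugates coincide, so `t` is central in `P`
      have hcen : ∀ y ∈ P, Commute y t := by
        haveI : Group.IsNilpotent (P : Subgroup G) := P.isPGroup'.isNilpotent
        set A : Subgroup (P : Subgroup G) :=
          centralizer ({⟨t, hP (mem_zpowers t)⟩} : Set (P : Subgroup G)) with hA
        have htop : A = ⊤ := by
          by_contra hne
          obtain ⟨y, hyN, hyA⟩ := SetLike.exists_of_lt
            (Group.normalizerCondition_of_isNilpotent A (lt_top_iff_ne_top.mpr hne))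
          have h1 := mem_centralizer_singleton_iff.mp ((mem_normalizer_iff.mp hyN _).mp
            (mem_centralizer_singleton_iff.mpr (rfl : (⟨t, hP (mem_zpowers t)⟩ : (P : Subgroup G)) *
              ⟨t, hP (mem_zpowers t)⟩ = _)))
          have h2 : Commute ((y : G) * t * (y : G)⁻¹) t := congrArg Subtype.val h1
          exact hyA (mem_centralizer_singleton_iff.mpr (Subtype.ext
            (mul_inv_eq_iff_eq_mul.mp (hconj _ h2))))
        intro y hy
        have h3 : (⟨y, hy⟩ : (P : Subgroup G)) ∈ A := htop ▸ mem_top _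
        have h4 : (⟨y, hy⟩ : (P : Subgroup G)) * ⟨t, hP (mem_zpowers t)⟩ =
            ⟨t, hP (mem_zpowers t)⟩ * ⟨y, hy⟩ := mem_centralizer_singleton_iff.mp h3
        exact congrArg Subtype.val h4
      exact hconj g (hcen _ hg)
    have h1 := Cores.glaubermanZStar P E.ht (hP (mem_zpowers t)) hiso
    rw [E.oddCore_eq_bot] at h1
    have h2 : t ∈ center G := mem_center_iff.2 fun g => by
      have := Subgroup.mem_bot.1 (h1 g)
      rw [mul_inv_eq_one, mul_inv_eq_iff_eq_mul] at this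
      exact this.symm
    rw [E.center_eq_bot, Subgroup.mem_bot] at h2
    have := E.ht
    rw [h2, orderOf_one] at this
    omega
  obtain ⟨c, hc, hci⟩ : ∃ c ∈ centralizer ({t} : Set G), c * i * c⁻¹ = g * t * g⁻¹ :=
    (E.invol _ hg (by rw [orderOf_conj, E.ht])).resolve_left hne
  set g' := c⁻¹ * g with hg'
  have h1 : g' * t * g'⁻¹ = i := by
    rw [hg']
    calc c⁻¹ * g * t * (c⁻¹ * g)⁻¹ = c⁻¹ * (g * t * g⁻¹) * c := by group
      _ = i := by rw [← hci]; group
  have h2 : g'⁻¹ * t * g' ∈ centralizer ({t} : Set G) :=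
    mem_conj_cent (by rw [h1]; exact mem_cent.2 E.ti)
  have h3 : g'⁻¹ * t * g' ≠ t := by
    intro e
    apply E.i_ne
    rw [← h1]
    calc g' * t * g'⁻¹ = g' * (g'⁻¹ * t * g') * g'⁻¹ := by rw [e]
      _ = t := by group
  obtain ⟨c', hc', hci'⟩ := (E.invol _ h2 (by
    have := orderOf_conj g'⁻¹ t
    rw [inv_inv] at this
    rw [this, E.ht])).resolve_left h3
  refine ⟨g' * c', ?_, ?_⟩
  · calc g' * c' * t * (g' * c')⁻¹ = g' * (c' * t * c'⁻¹) * g'⁻¹ := by group
      _ = i := by rw [mem_cent.1 hc', mul_inv_cancel_right, h1]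
  · calc g' * c' * i * (g' * c')⁻¹ = g' * (c' * i * c'⁻¹) * g'⁻¹ := by group
      _ = t := by rw [hci']; group

/-- An element exchanging the involutions normalises the torus. -/
theorem D_conj {v : G} (hv : (v * t * v⁻¹ = i ∧ v * i * v⁻¹ = t) ∨
    (v * t * v⁻¹ = t ∧ v * i * v⁻¹ = t * i) ∨ (v * t * v⁻¹ = t * i ∧ v * i * v⁻¹ = t) ∨
    (v * t * v⁻¹ = i ∧ v * i * v⁻¹ = t * i) ∨ (v * t * v⁻¹ = t * i ∧ v * i * v⁻¹ = i))
    {e : G} (he : e ∈ D) : v * e * v⁻¹ ∈ D := by
  obtain ⟨het, hei⟩ := E.mem_D.1 he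
  have c1 : Commute (v * e * v⁻¹) (v * t * v⁻¹) := by
    have := (Commute.conj_iff v).2 (het : Commute e t)
    simpa [MulAut.conj_apply] using this
  have c2 : Commute (v * e * v⁻¹) (v * i * v⁻¹) := by
    have := (Commute.conj_iff v).2 (hei : Commute e i)
    simpa [MulAut.conj_apply] using this
  have ht' : t * (t * i) = i := by rw [← mul_assoc, E.tt, one_mul]
  have hi' : (t * i) * i = t := by rw [mul_assoc, E.ii, mul_one]
  rw [E.mem_D]
  rcases hv with ⟨a, b⟩ | ⟨a, b⟩ | ⟨a, b⟩ | ⟨a, b⟩ | ⟨a, b⟩ <;> rw [a] at c1 <;> rw [b] at c2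
  · exact ⟨c2, c1⟩
  · exact ⟨c1, ht' ▸ c1.mul_right c2⟩
  · exact ⟨c2, ht' ▸ c2.mul_right c1⟩
  · exact ⟨hi' ▸ c2.mul_right c1, c1⟩
  · exact ⟨hi' ▸ c1.mul_right c2, c2⟩

/-- An odd subgroup of `C(i)` or `C(t i)` invariant under the torus lies in the torus. -/
theorem odd_le_D {v : G} (hv : v = i ∨ v = t * i) {W : Subgroup G}
    (hW : W ≤ centralizer ({v} : Set G)) (ho : Odd (Nat.card W))
    (hD : ∀ e ∈ D, ∀ x ∈ W, e * x * e⁻¹ ∈ W) : W ≤ D := by
  obtain ⟨v0, hv1, hv2⟩ := E.exists_swap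
  obtain ⟨u, hu, hut, hui⟩ : ∃ u : G, u * v * u⁻¹ = t ∧
      (∀ e ∈ D, u * e * u⁻¹ ∈ D) ∧ (∀ e ∈ D, u⁻¹ * e * u ∈ D) := by
    suffices h : ∃ u : G, u * v * u⁻¹ = t ∧ ∀ e ∈ D, u * e * u⁻¹ ∈ D by
      obtain ⟨u, h1, h2⟩ := h
      refine ⟨u, h1, h2, fun e he => ?_⟩
      let f : D → D := fun a => ⟨u * a * u⁻¹, h2 a a.2⟩
      have hf : Function.Injective f := fun a b h => by
        have := congrArg Subtype.val h
        exact Subtype.ext (mul_left_cancel (mul_right_cancel this))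
      obtain ⟨a, ha⟩ := Finite.surjective_of_injective hf ⟨e, he⟩
      have e1 : u * (a : G) * u⁻¹ = e := congrArg Subtype.val ha
      rw [show u⁻¹ * e * u = (a : G) by rw [← e1]; group]
      exact a.2
    rcases hv with rfl | rfl
    · exact ⟨v0, hv2, fun e he => E.D_conj (Or.inl ⟨hv1, hv2⟩) he⟩
    · refine ⟨v0 * s⁻¹, ?_, fun e he => ?_⟩
      · rw [← E.s_i]
        calc v0 * s⁻¹ * (s * i * s⁻¹) * (v0 * s⁻¹)⁻¹ = v0 * i * v0⁻¹ := by group
          _ = t := hv2
      · have hst : s⁻¹ * t * s⁻¹⁻¹ = t := by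
          rw [inv_inv, mul_assoc, ← mem_cent.1 E.s_mem, ← mul_assoc, inv_mul_cancel, one_mul]
        have hsi : s⁻¹ * i * s⁻¹⁻¹ = t * i := by
          have h := E.s_i
          have e1 : s⁻¹ * (s * i * s⁻¹) * s = i := by group
          rw [h] at e1
          have e2 : s⁻¹ * (t * i) * s = t * (s⁻¹ * i * s) := by
            rw [show s⁻¹ * (t * i) * s = (s⁻¹ * t * s⁻¹⁻¹) * (s⁻¹ * i * s) by group, hst]
          rw [e2] at e1
          rw [inv_inv]
          calc s⁻¹ * i * s = t * (t * (s⁻¹ * i * s)) := by rw [← mul_assoc, E.tt, one_mul]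
            _ = t * i := by rw [e1]
        have := E.D_conj (Or.inl ⟨hv1, hv2⟩) (E.D_conj (Or.inr (Or.inl ⟨hst, hsi⟩)) he)
        simpa [mul_assoc] using this
  set W' := W.map (MulAut.conj u).toMonoidHom with hW'
  have h1 : W' ≤ D := E.D_odd W'
    (by
      rintro _ ⟨x, hx, rfl⟩
      rw [← hu]
      exact conj_mem_cent (hW hx))
    (by rw [hW', Subgroup.card_map_of_injective (MulAut.conj u).injective]; exact ho)
    (by
      rintro e he _ ⟨x, hx, rfl⟩
      refine ⟨u⁻¹ * e * u * x * (u⁻¹ * e * u)⁻¹, hD _ (hui e he) x hx, ?_⟩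
      simp [mul_assoc])
  intro x hx
  have h2 := hui _ (h1 ⟨x, hx, rfl⟩)
  simpa [mul_assoc] using h2

/-- **The centralisers of the central elements.** -/
theorem cent_K {k : G} (hk : k ∈ K) (hk1 : k ≠ 1) :
    centralizer ({k} : Set G) = centralizer ({t} : Set G) := by
  classical
  have hCM : centralizer ({t} : Set G) ≤ centralizer ({k} : Set G) :=
    fun g hg => mem_cent.2 (E.K_comm k hk g hg).symm
  refine le_antisymm ?_ hCM
  haveI := E.K_cyclic
  by_cases heven : 2 ∣ orderOf k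
  · -- a power of `k` is `t`
    obtain ⟨m, hm⟩ := heven
    have hm0 : 0 < m := by
      have := (isOfFinOrder_of_finite k).orderOf_pos; omega
    have ho : orderOf (k ^ m) = 2 := by
      rw [orderOf_pow_of_dvd hm0.ne' ⟨2, by rw [hm, mul_comm]⟩, hm, Nat.mul_div_left _ hm0]
    have e : k ^ m = t := by
      letI : CommGroup K := IsCyclic.commGroup
      set x : K := ⟨k ^ m, pow_mem hk m⟩
      set y : K := ⟨t, E.t_K⟩
      haveI : Fintype K := Fintype.ofFinite K
      by_contra hne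
      have hx : orderOf x = 2 := by rw [Subgroup.orderOf_mk]; exact ho
      have hy : orderOf y = 2 := by rw [Subgroup.orderOf_mk]; exact E.ht
      have h3 : ({1, x, y} : Finset K).card ≤ 2 := le_trans
        (Finset.card_le_card fun a ha => by
          simp only [Finset.mem_insert, Finset.mem_singleton] at ha
          rw [Finset.mem_filter]
          refine ⟨Finset.mem_univ _, ?_⟩
          rcases ha with rfl | rfl | rfl
          · exact one_pow _
          · rw [← hx]; exact pow_orderOf_eq_one _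
          · rw [← hy]; exact pow_orderOf_eq_one _)
        (IsCyclic.card_pow_eq_one_le (α := K) (n := 2) (by norm_num))
      rw [Finset.card_eq_three.2 ⟨1, x, y, ?_, ?_, ?_, rfl⟩] at h3
      · omega
      · exact fun h => by rw [← h, orderOf_one] at hx; omega
      · exact fun h => by rw [← h, orderOf_one] at hy; omega
      · exact fun h => hne (congrArg Subtype.val h)
    intro g hg
    rw [← e]
    exact mem_cent.2 (Commute.pow_right (mem_cent.1 hg : Commute g k) m).eq
  set M := centralizer ({k} : Set G) with hM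
  haveI := Fact.mk Nat.prime_two
  have hkM : k ∈ M := mem_cent.2 rfl
  have hkO : (⟨k, hkM⟩ : M) ∈ Cfsg.oddCore M := by
    have hn : (zpowers (⟨k, hkM⟩ : M)).Normal := ⟨fun x hx g => by
      obtain ⟨j, rfl⟩ := mem_zpowers_iff.1 hx
      have hg : Commute g (⟨k, hkM⟩ : M) := Subtype.ext (mem_cent.1 g.2)
      rw [(hg.zpow_right j).eq, mul_inv_cancel_right]
      exact zpow_mem (mem_zpowers _) j⟩
    refine Cores.le_oddCore (N := zpowers (⟨k, hkM⟩ : M)) ?_ (mem_zpowers _)
    rw [Nat.card_zpowers, Subgroup.orderOf_mk]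
    exact Nat.odd_iff.2 (by omega)
  by_cases hfus : ∃ g ∈ M, g * t * g⁻¹ ∈ centralizer ({t} : Set G) ∧ g * t * g⁻¹ ≠ t
  · exfalso
    obtain ⟨g, hgM, hgC, hgne⟩ := hfus
    have hall : ∀ j ∈ M, orderOf j = 2 → ∃ m ∈ M, m * t * m⁻¹ = j := by
      intro j hj hj2
      obtain ⟨m, hm, hmj⟩ := E.exists_conj_mem hCM hj hj2
      obtain ⟨m', hm', e⟩ : ∃ m' ∈ M, m' * t * m'⁻¹ = m * j * m⁻¹ := by
        rcases E.invol _ hmj (by rw [orderOf_conj, hj2]) with e | ⟨c, hc, e⟩
        · exact ⟨1, one_mem M, by simp [e]⟩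
        · obtain ⟨c0, hc0, e0⟩ :=
            (E.invol _ hgC (by rw [orderOf_conj, E.ht])).resolve_left hgne
          refine ⟨c * c0⁻¹ * g, mul_mem (mul_mem (hCM hc) (inv_mem (hCM hc0))) hgM, ?_⟩
          rw [← e]
          calc c * c0⁻¹ * g * t * (c * c0⁻¹ * g)⁻¹ = c * c0⁻¹ * (g * t * g⁻¹) * c0 * c⁻¹ := by group
            _ = c * i * c⁻¹ := by rw [← e0]; group
      refine ⟨m⁻¹ * m', mul_mem (inv_mem hm) hm', ?_⟩
      calc m⁻¹ * m' * t * (m⁻¹ * m')⁻¹ = m⁻¹ * (m' * t * m'⁻¹) * m := by group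
        _ = j := by rw [e]; group
    have hSE : Cfsg.IsStronglyEmbedded M := by
      refine ⟨fun e => ?_, even_iff_two_dvd.2 ?_, fun g' hg' => ?_⟩
      · have : k ∈ center G := mem_center_iff.2 fun y => mem_cent.1 (e ▸ mem_top y : y ∈ M)
        rw [E.center_eq_bot, Subgroup.mem_bot] at this
        exact hk1 this
      · have h := orderOf_dvd_natCard (⟨t, hCM E.t_mem⟩ : M)
        rwa [Subgroup.orderOf_mk, E.ht] at h
      · by_contra hev
        rw [Nat.not_odd_iff_even, even_iff_two_dvd] at hev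
        obtain ⟨⟨j, hjM⟩, hj2⟩ := exists_prime_orderOf_dvd_card' 2 hev
        obtain ⟨hj, hjg⟩ := Subgroup.mem_inf.1 hjM
        rw [Subgroup.orderOf_mk] at hj2
        obtain ⟨y, hy, rfl⟩ := hjg
        obtain ⟨m, hm, e⟩ := hall _ hj hj2
        obtain ⟨m', hm', e'⟩ := hall y hy (by
          rwa [MulEquiv.coe_toMonoidHom, MulEquiv.orderOf_eq] at hj2)
        apply hg'
        have hc : m⁻¹ * g' * m' ∈ centralizer ({t} : Set G) := by
          rw [mem_cent, ← mul_inv_eq_iff_eq_mul]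
          calc m⁻¹ * g' * m' * t * (m⁻¹ * g' * m')⁻¹
              = m⁻¹ * (g' * (m' * t * m'⁻¹) * g'⁻¹) * m := by group
            _ = t := by
              rw [e', show g' * y * g'⁻¹ = m * t * m⁻¹ from e.symm]; group
        have := mul_mem (mul_mem hm (hCM hc)) (inv_mem hm')
        simpa [mul_assoc] using this
    have h1 := S1221.result M hSE
    rw [E.oddCore_eq_bot] at h1
    exact hk1 (Subgroup.mem_bot.1 (h1 ⟨_, hkO, rfl⟩))
  push Not at hfus
  -- `t` is isolated in `M`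
  set O := (Cfsg.oddCore M).map M.subtype with hO
  have hOodd : Odd (Nat.card O) := by
    rw [hO, Subgroup.card_map_of_injective M.subtype_injective]
    exact Cores.odd_card_oddCore
  have hOnorm : ∀ m ∈ M, ∀ x ∈ O, m * x * m⁻¹ ∈ O := by
    rintro m hm _ ⟨y, hy, rfl⟩
    haveI : (Cfsg.oddCore M).Characteristic := Cores.pPrimeCore_characteristic
    exact ⟨⟨m, hm⟩ * y * ⟨m, hm⟩⁻¹, Subgroup.Normal.conj_mem inferInstance y hy _, rfl⟩
  have hfix : ∀ v, (v = i ∨ v = t * i) → ∀ x ∈ O, v * x * v = x → x ∈ D := by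
    intro v hv x hx hvx
    have hvv : v * v = 1 := by
      rcases hv with rfl | rfl
      · exact E.ii
      · rw [show t * i * (t * i) = t * (i * t) * i by group, ← E.ti, ← mul_assoc, E.tt, one_mul,
          E.ii]
    have hW : (O ⊓ centralizer ({v} : Set G)) ≤ D := by
      refine E.odd_le_D hv inf_le_right ?_ fun e he y hy => ⟨?_, ?_⟩
      · exact Odd.of_dvd_nat hOodd (Subgroup.card_dvd_of_le inf_le_left)
      · exact hOnorm e (hCM (E.D_le he)) y hy.1
      · have hev : e * v = v * e := by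
          obtain ⟨h1, h2⟩ := E.mem_D.1 he
          rcases hv with rfl | rfl
          · exact h2
          · exact (Commute.mul_right h1 h2 : Commute e (t * i))
        have hyv : Commute y v := mem_cent.1 hy.2
        exact mem_cent.2 (((Commute.mul_left hev hyv).mul_left
          (Commute.inv_left hev) : Commute (e * y * e⁻¹) v))
    refine hW ⟨hx, mem_cent.2 ?_⟩
    calc x * v = v * x * v * v := by rw [hvx]
      _ = v * x := by rw [mul_assoc, hvv, mul_one]
  have hOt : ∀ x ∈ O, t * x * t = x := by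
    have htc : t⁻¹ = t := inv_eq_of_mul_eq_one_left E.tt
    have hic : i⁻¹ = i := inv_eq_of_mul_eq_one_left E.ii
    refine H92.commute_of_fours hOodd E.ii E.tt E.ti.symm
      (fun x hx => by simpa [hic] using hOnorm i (hCM E.i_mem) x hx)
      (fun x hx => by simpa [htc] using hOnorm t (hCM E.t_mem) x hx) ?_ ?_
    all_goals intro x hx he
    all_goals
      have hxD : x ∈ D := by
        first
          | exact hfix i (Or.inl rfl) x hx he
          | exact hfix (t * i) (Or.inr rfl) x hx (by rwa [E.ti])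
      rw [← (E.mem_D.1 hxD).1, mul_assoc, E.tt, mul_one]
  obtain ⟨P, hP⟩ := (IsPGroup.of_card (G := zpowers (⟨t, hCM E.t_mem⟩ : M)) (n := 1)
    (by rw [Nat.card_zpowers, Subgroup.orderOf_mk, E.ht, pow_one])).exists_le_sylow (p := 2)
  have hiso : ∀ g : M, g * ⟨t, hCM E.t_mem⟩ * g⁻¹ ∈ P → g * ⟨t, hCM E.t_mem⟩ * g⁻¹ = ⟨t, hCM E.t_mem⟩ := by
    intro g hg
    haveI : Group.IsNilpotent (P : Subgroup M) := P.isPGroup'.isNilpotent
    set tP : (P : Subgroup M) := ⟨⟨t, hCM E.t_mem⟩, hP (mem_zpowers _)⟩ with htP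
    set A : Subgroup (P : Subgroup M) := centralizer ({tP} : Set (P : Subgroup M)) with hA
    have hconj : ∀ h : M, ((h : G) * t * (h : G)⁻¹) * t = t * ((h : G) * t * (h : G)⁻¹) →
        (h : G) * t * (h : G)⁻¹ = t := fun h hh => hfus h h.2 (mem_cent.2 hh)
    have htop : A = ⊤ := by
      by_contra hne
      obtain ⟨y, hyN, hyA⟩ := SetLike.exists_of_lt
        (Group.normalizerCondition_of_isNilpotent A (lt_top_iff_ne_top.mpr hne))
      have h1 := mem_centralizer_singleton_iff.mp ((mem_normalizer_iff.mp hyN tP).mp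
        (mem_centralizer_singleton_iff.mpr rfl))
      have h2 := hconj (y : M) (congrArg (fun a : (P : Subgroup M) => ((a : M) : G)) h1)
      exact hyA (mem_centralizer_singleton_iff.mpr (Subtype.ext (Subtype.ext
        (mul_inv_eq_iff_eq_mul.mp h2))))
    have h3 := mem_centralizer_singleton_iff.mp (htop ▸ mem_top (⟨_, hg⟩ : (P : Subgroup M)))
    exact Subtype.ext (hconj g (congrArg (fun a : (P : Subgroup M) => ((a : M) : G)) h3))
  intro g hg
  have hz := Cores.glaubermanZStar P (by rw [Subgroup.orderOf_mk, E.ht]) (hP (mem_zpowers _))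
    hiso ⟨g, hg⟩
  set o := t * g * t⁻¹ * g⁻¹ with ho
  have hoO : o ∈ O := ⟨_, hz, rfl⟩
  have htc : t⁻¹ = t := inv_eq_of_mul_eq_one_left E.tt
  have h1 : t * o * t = o := hOt o hoO
  have h2 : o * o = 1 := by
    have hinv : t * o * t = o⁻¹ := by
      rw [ho, mul_inv_rev, mul_inv_rev, mul_inv_rev, inv_inv, inv_inv, htc]
      simp [mul_assoc, ← mul_assoc t t, E.tt]
    rw [h1] at hinv
    exact mul_eq_one_iff_eq_inv.2 hinv
  have h3 := H92.eq_one_of_sq_eq_one_odd hOodd hoO h2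
  rw [ho, htc, mul_inv_eq_one] at h3
  exact mem_cent.2 (by
    calc g * t = (t * g * t) * t := by rw [h3]
      _ = t * g := by rw [mul_assoc (t * g), E.tt, mul_one])

end Cent

end Cfsg.Agent.H68.UThree
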