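import Cfsg.Agent.H68.UThree.Unipotent
import Cfsg.Agent.H68.UThree.Norm3Main
import Cfsg.Agent.H36.OddU3.Main

/-!
# `G ≅ PSU₃(q)`
-/

set_option autoImplicit false
set_option linter.unusedSectionVars false
set_option linter.style.haveILetI false

namespace Cfsg.Agent.H68.UThree

open Subgroup MulAction

universe u

variable {G : Type u} [Group G] [Finite G] [IsSimpleGroup G] {p n z d : ℕ} {t i s w : G}
  {K X Hb D : Subgroup G}

namespace Cent

variable (E : Cent p n z d t i s w K X Hb D)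
include E

theorem card_Hb_coprime : Nat.Coprime (Nat.card Hb) p := by
  refine (E.prime.coprime_iff_not_dvd.2 ?_).symm
  rw [E.card_Hb]
  intro hd
  rcases (Nat.Prime.dvd_mul E.prime).1 hd with hd | hd
  · have h6 : p ∣ p ^ n := dvd_pow_self p (by have := E.one_le; omega)
    have h7 := Nat.dvd_sub h6 hd
    rw [show p ^ n - (p ^ n - 1) = 1 by have := E.q_ge; omega] at h7
    exact E.prime.one_lt.ne' (Nat.dvd_one.1 h7)
  · exact E.p_ndvd_d hd

theorem eq_one_of_unip {U : Subgroup G} (hU : IsUnip p n t X Hb U) {u : G} (hu : u ∈ U)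
    (huw : w⁻¹ * u * w ∈ U) : u = 1 := by
  have hcomm : ∀ x ∈ X, x * u = u * x := fun x hx =>
    Subgroup.mem_centralizer_iff.1 (hU.le hu) x hx
  have hcomm' : ∀ x ∈ X, x * (w⁻¹ * u * w) = (w⁻¹ * u * w) * x := fun x hx =>
    Subgroup.mem_centralizer_iff.1 (hU.le huw) x hx
  have hle : Subgroup.closure ({x : G | x ∈ X} ∪ {y : G | w⁻¹ * y * w ∈ X}) ≤
      centralizer ({u} : Set G) := by
    rw [Subgroup.closure_le]
    rintro y (hy | hy)
    · exact mem_cent.2 (hcomm y hy)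
    · refine mem_cent.2 ?_
      calc y * u = w * ((w⁻¹ * y * w) * (w⁻¹ * u * w)) * w⁻¹ := by group
        _ = w * ((w⁻¹ * u * w) * (w⁻¹ * y * w)) * w⁻¹ := by rw [hcomm' _ hy]
        _ = u * y := by group
  have htu : t * u = u * t := mem_cent.1 (hle E.t_gen)
  have huX : u ∈ X := hU.fixed u hu htu.symm
  have hwX : w⁻¹ * u * w ∈ X := by
    refine hU.fixed _ huw ?_
    have hwt : t * w = w * t := (mem_cent.1 E.w_mem).symm
    calc w⁻¹ * u * w * t = w⁻¹ * u * (t * w) := by rw [hwt]; group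
      _ = w⁻¹ * (u * t) * w := by group
      _ = w⁻¹ * (t * u) * w := by rw [htu]
      _ = (w⁻¹ * t * w) * (w⁻¹ * u * w) := by group
      _ = t * (w⁻¹ * u * w) := by
        rw [show w⁻¹ * t * w = t by rw [mul_assoc, hwt, inv_mul_cancel_left]]
  have h1 := E.X_opp _ hwX (by rw [show w * (w⁻¹ * u * w) * w⁻¹ = u by group]; exact huX)
  calc u = w * (w⁻¹ * u * w) * w⁻¹ := by group
    _ = 1 := by rw [h1]; group

/-- **The configuration.** -/
theorem iso_psu_of_unip {U : Subgroup G} (hU : IsUnip p n t X Hb U) (hz : z ∣ 3) :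
    ∃ (F : Type) (_ : Field F) (_ : Fintype F), Fintype.card F = (p ^ n) ^ 2 ∧
      Nonempty (G ≃* Cfsg.PSU 3 F (p ^ n)) := by
  classical
  let B : Subgroup G :=
    { carrier := {g | ∃ u ∈ U, ∃ h ∈ Hb, g = u * h}
      one_mem' := ⟨1, one_mem _, 1, one_mem _, (mul_one _).symm⟩
      mul_mem' := by
        rintro _ _ ⟨u, hu, h, hh, rfl⟩ ⟨u', hu', h', hh', rfl⟩
        exact ⟨u * (h * u' * h⁻¹), mul_mem hu (hU.conj h hh u' hu'), h * h', mul_mem hh hh', by group⟩
      inv_mem' := by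
        rintro _ ⟨u, hu, h, hh, rfl⟩
        have := hU.conj h⁻¹ (inv_mem hh) u⁻¹ (inv_mem hu)
        rw [inv_inv] at this
        exact ⟨h⁻¹ * u⁻¹ * h, this, h⁻¹, inv_mem hh, by group⟩ }
  have hdisj : ∀ g ∈ U, g ∈ Hb → g = 1 := fun g hgU hgH =>
    orderOf_eq_one_iff.1 (Nat.eq_one_of_dvd_coprimes ((E.card_Hb_coprime).pow_right (n * 3))
      (Subgroup.orderOf_dvd_natCard _ hgH)
      (by rw [pow_mul, ← hU.card]; exact Subgroup.orderOf_dvd_natCard _ hgU))
  have hUB : U ≤ B := fun u hu => ⟨u, hu, 1, one_mem _, (mul_one u).symm⟩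
  have hHB : Hb ≤ B := fun h hh => ⟨1, one_mem _, h, hh, (one_mul h).symm⟩
  have hU1 : U ≠ ⊥ := fun e => by
    have h := hU.card
    rw [e, Subgroup.card_bot] at h
    have := Nat.one_lt_pow (show (3 : ℕ) ≠ 0 by norm_num) (show 1 < p ^ n by have := E.q_ge; omega)
    omega
  -- the conjugate of `B` by `w` meets `U` trivially
  have hUw : ∀ u ∈ U, w⁻¹ * u * w ∈ B → u = 1 := by
    intro u hu hB
    obtain ⟨v, hv, h, hh, he⟩ := hB
    refine E.eq_one_of_unip hU hu ?_
    have hh1 : h = 1 := by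
      set o := (p ^ n) ^ 3 with ho
      have hm : ∀ m : ℕ, (v * h) ^ m * (h ^ m)⁻¹ ∈ U := by
        intro m
        induction m with
        | zero => simp
        | succ m ih =>
          have := mul_mem hv (hU.conj h hh _ ih)
          convert this using 1
          rw [pow_succ', pow_succ']
          group
      have h1 := hm o
      rw [← he] at h1
      have h2 : (w⁻¹ * u * w) ^ o = 1 := by
        have h3 := conj_pow (i := o) (a := w⁻¹) (b := u)
        rw [inv_inv] at h3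
        rw [h3, orderOf_dvd_iff_pow_eq_one.1 (ho ▸ hU.card ▸ Subgroup.orderOf_dvd_natCard _ hu),
          mul_one, inv_mul_cancel]
      rw [h2, one_mul, inv_mem_iff] at h1
      have h4 := hdisj _ h1 (pow_mem hh o)
      refine orderOf_eq_one_iff.1 (Nat.eq_one_of_dvd_coprimes
        ((E.card_Hb_coprime).pow_right (n * 3)) (Subgroup.orderOf_dvd_natCard _ hh) ?_)
      rw [pow_mul]
      exact orderOf_dvd_of_pow_eq_one h4
    rw [he, hh1, mul_one]
    exact hv
  have hw : w ∉ B := fun hwB => by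
    obtain ⟨u, hu, hu1⟩ := (Subgroup.bot_or_exists_ne_one U).resolve_left hU1
    exact hu1 (hUw u hu (mul_mem (mul_mem (inv_mem hwB) (hUB hu)) hwB))
  have hB0 : B ≠ ⊤ := fun e => hw (e ▸ mem_top _)
  have hcB : Nat.card B = (p ^ n) ^ 3 * Nat.card Hb := by
    rw [← hU.card, ← Nat.card_prod]
    refine (Nat.card_congr (Equiv.ofBijective
      (fun x : U × Hb => (⟨(x.1 : G) * x.2, x.1, x.1.2, x.2, x.2.2, rfl⟩ : B)) ⟨?_, ?_⟩)).symm
    · intro x y e
      have e' : (x.1 : G) * x.2 = y.1 * y.2 := congrArg Subtype.val e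
      have h1 : (y.1 : G)⁻¹ * x.1 = 1 := hdisj _ (mul_mem (inv_mem y.1.2) x.1.2) (by
        have : (y.1 : G)⁻¹ * x.1 = y.2 * (x.2 : G)⁻¹ := by
          rw [eq_mul_inv_iff_mul_eq, mul_assoc, e', inv_mul_cancel_left]
        rw [this]
        exact mul_mem y.2.2 (inv_mem x.2.2))
      have hx1 : (x.1 : G) = y.1 := (inv_mul_eq_one.1 h1).symm
      refine Prod.ext (Subtype.ext hx1) (Subtype.ext ?_)
      rwa [hx1, mul_right_inj] at e'
    · rintro ⟨_, u, hu, h, hh, rfl⟩
      exact ⟨(⟨u, hu⟩, ⟨h, hh⟩), rfl⟩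
  have hidx : B.index = (p ^ n) ^ 3 + 1 := by
    refine Nat.eq_of_mul_eq_mul_left (n := Nat.card B) Nat.card_pos ?_
    rw [B.card_mul_index, hcB, E.card_Hb, ← (centralizer ({t} : Set G)).card_mul_index, E.card_C,
      E.index_C]
    have hq := E.q_ge
    have h1 : p ^ n ≤ (p ^ n) ^ 2 := Nat.le_self_pow two_ne_zero _
    have h2 : (p ^ n) ^ 2 - 1 = (p ^ n + 1) * (p ^ n - 1) := by
      simpa using Nat.sq_sub_sq (p ^ n) 1
    rw [h2]
    have h3 : (p ^ n + 1) * ((p ^ n) ^ 2 - p ^ n + 1) = (p ^ n) ^ 3 + 1 := by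
      zify [h1]; ring
    calc p ^ n * ((p ^ n + 1) * (p ^ n - 1)) * d * ((p ^ n) ^ 2 * ((p ^ n) ^ 2 - p ^ n + 1))
        = (p ^ n) ^ 3 * ((p ^ n - 1) * d) * ((p ^ n + 1) * ((p ^ n) ^ 2 - p ^ n + 1)) := by ring
      _ = _ := by rw [h3]
  -- the action
  haveI : FaithfulSMul G (G ⧸ B) := ⟨fun {g₁ g₂} h => by
    rcases IsSimpleGroup.eq_bot_or_eq_top_of_normal B.normalCore inferInstance with hN | hN
    · have : g₂⁻¹ * g₁ ∈ B.normalCore := by
        rw [Subgroup.normalCore_eq_ker, MonoidHom.mem_ker]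
        exact Equiv.ext fun q => by
          show (g₂⁻¹ * g₁) • q = q
          rw [mul_smul, h, inv_smul_smul]
      rw [hN, Subgroup.mem_bot, inv_mul_eq_one] at this
      exact this.symm
    · exact absurd (top_le_iff.1 (hN ▸ B.normalCore_le)) hB0⟩
  set a : G ⧸ B := ((1 : G) : G ⧸ B) with ha
  set b : G ⧸ B := (w : G ⧸ B) with hb
  have hsa : ∀ g : G, g • a = a ↔ g ∈ B := by
    intro g
    rw [ha, MulAction.Quotient.smul_coe, smul_eq_mul, mul_one, QuotientGroup.eq, mul_one,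
      inv_mem_iff]
  have hsb : ∀ g : G, g • b = b ↔ w⁻¹ * g * w ∈ B := by
    intro g
    rw [hb, MulAction.Quotient.smul_coe, smul_eq_mul, QuotientGroup.eq, ← inv_mem_iff (H := B)]
    simp [mul_assoc]
  have hab : a ≠ b := fun e => hw (by
    rw [ha, hb, QuotientGroup.eq, inv_one, one_mul] at e; exact e)
  have hUa : ∀ u ∈ U, u • a = a := fun u hu => (hsa u).2 (hUB hu)
  have hHb : ∀ h ∈ Hb, h • b = b := fun h hh => (hsb h).2 (hHB (by
    have h1 := E.w_Hb h hh
    -- `w⁻¹` normalises as well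
    let f : Hb → Hb := fun y => ⟨w * y * w⁻¹, E.w_Hb y y.2⟩
    have hf : Function.Injective f := fun y v e => by
      have := congrArg Subtype.val e
      exact Subtype.ext (mul_left_cancel (mul_right_cancel this))
    obtain ⟨y, hy⟩ := Finite.surjective_of_injective hf ⟨h, hh⟩
    have e : w * (y : G) * w⁻¹ = h := congrArg Subtype.val hy
    rw [show w⁻¹ * h * w = (y : G) by rw [← e]; group]
    exact y.2))
  have hne : ∀ u : U, (u : G) • b ≠ a := fun u e =>
    hab ((smul_left_cancel (u : G) (e.trans (hUa u u.2).symm)).symm)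
  have hinj : Function.Injective (fun u : U => (⟨(u : G) • b, hne u⟩ : {c : G ⧸ B // c ≠ a})) := by
    intro u v e
    have e' : (u : G) • b = (v : G) • b := congrArg Subtype.val e
    have h1 : ((v : G)⁻¹ * u) • b = b := by rw [mul_smul, e', inv_smul_smul]
    exact Subtype.ext (inv_mul_eq_one.1 (hUw _ (mul_mem (inv_mem v.2) u.2) ((hsb _).1 h1))).symm
  have hbij := (Nat.bijective_iff_injective_and_card _).2 ⟨hinj, by
    haveI := Fintype.ofFinite (G ⧸ B)
    rw [Nat.card_eq_fintype_card (α := {c : G ⧸ B // c ≠ a}), Fintype.card_subtype_compl,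
      Fintype.card_subtype_eq, ← Nat.card_eq_fintype_card, ← Subgroup.index_eq_card, hidx, hU.card]
    rfl⟩
  have hreg : ∀ c, c ≠ a → ∃! u : U, (u : G) • b = c := by
    intro c hc
    obtain ⟨u, hu⟩ := hbij.2 ⟨c, hc⟩
    refine ⟨u, congrArg Subtype.val hu, fun v hv => hinj (Subtype.ext ?_)⟩
    exact hv.trans (congrArg Subtype.val hu).symm
  have hH : ∀ g : G, g ∈ Hb ↔ g • a = a ∧ g • b = b := by
    intro g
    refine ⟨fun hg => ⟨(hsa g).2 (hHB hg), hHb g hg⟩, fun ⟨h1, h2⟩ => ?_⟩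
    obtain ⟨u, hu, h, hh, rfl⟩ := (hsa g).1 h1
    rw [mul_smul, hHb h hh] at h2
    have hu1 : u = 1 := hUw u hu ((hsb u).1 h2)
    rw [hu1, one_mul]
    exact hh
  have hswap : ∃ x : G, x • a = b ∧ x • b = a := by
    refine ⟨w, by rw [ha, hb, MulAction.Quotient.smul_coe, smul_eq_mul, mul_one], ?_⟩
    rw [hb, ha, MulAction.Quotient.smul_coe, smul_eq_mul, QuotientGroup.eq, mul_one, inv_mem_iff]
    exact hHB E.w_sq
  haveI := Fact.mk E.prime
  have hnil : Group.IsNilpotent U :=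
    (IsPGroup.of_card (p := p) (n := n * 3) (by rw [hU.card, pow_mul])).isNilpotent
  have C : H36.OddU3.Cfg G (G ⧸ B) a b U Hb p n :=
    { prime := E.prime
      odd := E.odd
      one_le := E.one_le
      ab := hab
      U_fix := hUa
      regular := hreg
      H_iff := hH
      conj := hU.conj
      swap := hswap
      nilp := hnil
      cardU := hU.card
      cyclic := E.Hb_cyclic
      cardH := ⟨z, (Nat.dvd_prime Nat.prime_three).1 hz, E.zd ▸ dvd_mul_right z d, by
        rw [E.card_Hb, mul_left_comm, E.zd, show p ^ (2 * n) = (p ^ n) ^ 2 by ring, mul_comm,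
          ← Nat.sq_sub_sq, one_pow]⟩ }
  exact C.iso_psu inferInstance

/-- **Recognition.** -/
theorem iso_psu [Fintype G] (hΦ : PhiLift (p ^ n) t K D) :
    ∃ (F : Type) (_ : Field F) (_ : Fintype F), Fintype.card F = (p ^ n) ^ 2 ∧
      Nonempty (G ≃* Cfsg.PSU 3 F (p ^ n)) := by
  have hz := E.z_dvd_three hΦ
  obtain ⟨U, hU⟩ := E.exists_unip hz
  exact E.iso_psu_of_unip hU hz

end Cent

end Cfsg.Agent.H68.UThree
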