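import Cfsg.Agent.H68.UThree.Model.Main
import Cfsg.Agent.H68.UThree.Recognise
import Cfsg.Agent.H49.UChar.Transport

/-!
# The local half of the recognition theorem for `C(t) ≅ GU₂(q)/Z`

`exists_lift` turns the isomorphism into a `Lift`; `Lift.iso_psu` gives `G ≅ PSU₃(q)` from the index
of `C(t)` and `PhiLift`.
-/

set_option autoImplicit false
set_option linter.unusedSectionVars false
set_option linter.style.haveILetI false

namespace Cfsg.Agent.H68.UThree.Model

open Matrix Cfsg Cfsg.Agent.Unitary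

universe u v

variable {F : Type v} [Field F] [Fintype F] {q : ℕ}

/-- **The isomorphism as a lift.** -/
theorem exists_lift {G : Type u} [Group G] [Finite G] (hF : Fintype.card F = q ^ 2)
    (Z : Subgroup (GU 2 F q)) [Z.Normal] (hZc : Z ≤ Subgroup.center (GU 2 F q))
    (hZo : Odd (Nat.card Z)) {t : G} (ht : orderOf t = 2)
    (e : Subgroup.centralizer ({t} : Set G) ≃* GU 2 F q ⧸ Z) :
    ∃ π : GU 2 F q →* G, Lift hF (Nat.card Z) t π := by
  classical
  set π : GU 2 F q →* G :=
    (Subgroup.centralizer ({t} : Set G)).subtype.comp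
      ((e.symm.toMonoidHom).comp (QuotientGroup.mk' Z)) with hπ
  set z := Nat.card Z with hz
  haveI : NeZero z := ⟨Nat.card_pos.ne'⟩
  -- the scalar of an element of `Z`
  have hsc : ∀ g ∈ Subgroup.center (GU 2 F q), ∃ c : F, mat g = c • (1 : Matrix (Fin 2) (Fin 2) F) ∧
      c * c ^ q = 1 := fun g hg => eq_smul_of_mem_center_GU hF hg
  have hcinj : ∀ c c' : F, c • (1 : Matrix (Fin 2) (Fin 2) F) = c' • 1 → c = c' := fun c c' h => by
    simpa using congrFun (congrFun h 0) 0
  have hroot : ∀ g ∈ Z, ∃ c : F, c ^ z = 1 ∧ mat g = c • (1 : Matrix (Fin 2) (Fin 2) F) := by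
    intro g hg
    obtain ⟨c, hc, -⟩ := hsc g (hZc hg)
    refine ⟨c, hcinj _ _ ?_, hc⟩
    have hp : ∀ m : ℕ, mat (g ^ m) = c ^ m • (1 : Matrix (Fin 2) (Fin 2) F) := by
      intro m
      induction m with
      | zero => rw [pow_zero, pow_zero, one_smul]; rfl
      | succ m ih =>
        rw [pow_succ, mat_mul, ih, hc, Matrix.smul_mul, Matrix.one_mul, smul_smul, ← pow_succ]
    rw [← hp, one_smul, show g ^ z = 1 from
      orderOf_dvd_iff_pow_eq_one.1 (Subgroup.orderOf_dvd_natCard _ hg)]
    rfl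
  -- all `z`-th roots of unity occur
  have hall : ∀ c : F, c ^ z = 1 → ∃ g ∈ Z, mat g = c • (1 : Matrix (Fin 2) (Fin 2) F) := by
    choose f hf1 hf2 using hroot
    haveI := Fintype.ofFinite Z
    let S : Finset F := Finset.univ.image fun g : Z => f g g.2
    have hS : S.card = z := by
      rw [Finset.card_image_of_injective, Finset.card_univ, hz, Nat.card_eq_fintype_card]
      intro a b h
      refine Subtype.ext (mat_inj ?_)
      simp only at h
      rw [hf2 a a.2, hf2 b b.2, h]
    have hroots : S = (Polynomial.nthRoots z (1 : F)).toFinset := by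
      refine Finset.eq_of_subset_of_card_le (fun x hx => ?_) ?_
      · obtain ⟨g, -, rfl⟩ := Finset.mem_image.1 hx
        rw [Multiset.mem_toFinset, Polynomial.mem_nthRoots Nat.card_pos]
        exact hf1 g g.2
      · rw [hS]
        exact (Multiset.toFinset_card_le _).trans (Polynomial.card_nthRoots z 1)
    intro c hc
    have : c ∈ S := by rw [hroots, Multiset.mem_toFinset, Polynomial.mem_nthRoots Nat.card_pos]; exact hc
    obtain ⟨g, -, rfl⟩ := Finset.mem_image.1 this
    exact ⟨g, g.2, hf2 g g.2⟩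
  have hker : ∀ g, π g = 1 ↔ g ∈ Z := by
    intro g
    rw [hπ]
    simp only [MonoidHom.comp_apply, Subgroup.coe_subtype, OneMemClass.coe_eq_one]
    rw [MulEquiv.coe_toMonoidHom, map_eq_one_iff e.symm e.symm.injective, QuotientGroup.mk'_apply,
      QuotientGroup.eq_one_iff]
  have hrange : π.range = Subgroup.centralizer ({t} : Set G) := by
    rw [hπ, MonoidHom.range_comp, MonoidHom.range_eq_top.2 ?_, ← MonoidHom.range_eq_map,
      Subgroup.range_subtype]
    exact e.symm.surjective.comp (QuotientGroup.mk'_surjective Z)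
  have hdvd : z ∣ q + 1 := by
    let g : Z →* (GU 2 F q) := Z.subtype
    have : ∀ a : Z, ∃ c : F, mat a.1 = c • (1 : Matrix (Fin 2) (Fin 2) F) ∧ c * c ^ q = 1 :=
      fun a => hsc a.1 (hZc a.2)
    choose f hf1 hf2 using this
    let ψ : Z →* N1 (F := F) (q := q) :=
      { toFun := fun a => ⟨Units.mk0 (f a) (fun h => by simpa [h] using hf2 a),
          MonoidHom.mem_ker.2 (Units.ext (by simp [pow_succ', hf2 a]))⟩
        map_one' := Subtype.ext (Units.ext (hcinj _ _ (by
          show f 1 • (1 : Matrix (Fin 2) (Fin 2) F) = (1 : F) • 1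
          rw [← hf1, one_smul]; rfl)))
        map_mul' := fun a b => Subtype.ext (Units.ext (hcinj _ _ (by
          show f (a * b) • (1 : Matrix (Fin 2) (Fin 2) F) = (f a * f b) • 1
          rw [← hf1, Subgroup.coe_mul, mat_mul, hf1, hf1, Matrix.smul_mul, Matrix.one_mul,
            smul_smul]))) }
    have hψ : Function.Injective ψ := by
      intro a b h
      refine Subtype.ext (mat_inj ?_)
      rw [hf1, hf1, show f a = f b from congrArg (fun x => ((x : Fˣ) : F))
        (congrArg Subtype.val h)]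
    have h := Subgroup.card_subgroup_dvd_card ψ.range
    rw [← Nat.card_congr (MonoidHom.ofInjective hψ).toEquiv,
      show Nat.card (N1 (F := F) (q := q)) = q + 1 from card_ker_pow hF] at h
    exact h
  refine ⟨π, hZo, hdvd, hrange, fun g => ?_, fun g hg => ?_⟩
  · rw [hker]
    exact ⟨fun h => hroot g h, fun ⟨c, hc, hgc⟩ => by
      obtain ⟨g', hg', e'⟩ := hall c hc
      rwa [mat_inj (hgc.trans e'.symm)]⟩
  · -- `t` is the image of a scalar
    have htC : t ∈ Subgroup.centralizer ({t} : Set G) := Subgroup.mem_centralizer_singleton_iff.2 rfl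
    obtain ⟨m, hm⟩ : t ∈ π.range := hrange ▸ htC
    have hcomm : ∀ x, π (m * x * m⁻¹ * x⁻¹) = 1 := fun x => by
      have hx : π x ∈ Subgroup.centralizer ({t} : Set G) := hrange ▸ ⟨x, rfl⟩
      rw [map_mul, map_mul, map_mul, map_inv, map_inv, hm,
        ← Subgroup.mem_centralizer_singleton_iff.1 hx, mul_inv_cancel_right, mul_inv_cancel]
    obtain ⟨k, hk⟩ := hZo
    have hsq1 : ∀ c : F, c ^ z = 1 → c * c = 1 → c = 1 := fun c hc h2 => by
      rw [hk, pow_succ, pow_mul, pow_two, h2, one_pow, one_mul] at hc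
      exact hc
    have hmc : m ∈ Subgroup.center (GU 2 F q) := Subgroup.mem_center_iff.2 fun x => by
      obtain ⟨c, hc, e'⟩ := hroot _ ((hker _).1 (hcomm x))
      have hc1 : c = 1 := by
        refine hsq1 c hc ?_
        have h1 : detGU 2 F q (m * x * m⁻¹ * x⁻¹) = 1 := by
          rw [map_mul, map_mul, map_mul, map_inv, map_inv, mul_right_comm (detGU 2 F q m),
            mul_inv_cancel, one_mul, mul_inv_cancel]
        have h2 := congrArg Units.val h1
        rw [show (detGU 2 F q (m * x * m⁻¹ * x⁻¹) : F) = (mat (m * x * m⁻¹ * x⁻¹)).det from rfl,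
          e', Matrix.det_smul, Matrix.det_one, Fintype.card_fin, mul_one, pow_two] at h2
        exact h2
      have h3 : m * x * m⁻¹ * x⁻¹ = 1 := mat_inj (by rw [e', hc1, one_smul]; rfl)
      rw [mul_inv_eq_one, mul_inv_eq_iff_eq_mul] at h3
      exact h3.symm
    obtain ⟨a, ha, -⟩ := hsc m hmc
    obtain ⟨c, hc, hc'⟩ := hroot _ ((hker (m * m)).1 (by
      rw [map_mul, hm, ← pow_two, ← ht, pow_orderOf_eq_one]))
    rw [mat_mul, ha, Matrix.smul_mul, Matrix.one_mul, smul_smul] at hc'
    have haa := hcinj _ _ hc'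
    set c1 := c ^ (k + 1) with hc1
    have hc1z : c1 ^ z = 1 := by rw [hc1, ← pow_mul, mul_comm, pow_mul, hc, one_pow]
    have hc1sq : c1 * c1 = a * a := by
      rw [haa, hc1, ← pow_add, show k + 1 + (k + 1) = (2 * k + 1) + 1 by ring, ← hk, pow_succ, hc,
        one_mul]
    obtain ⟨g1, hg1, hg1'⟩ := hall c1 hc1z
    rcases mul_self_eq_mul_self_iff.1 hc1sq with h | h
    · exfalso
      have hm1 : m = g1 := mat_inj (by rw [ha, hg1', h])
      rw [hm1, (hker g1).2 hg1] at hm
      rw [← hm, orderOf_one] at ht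
      omega
    · have hm1 : m = g * g1 := mat_inj (by
        rw [ha, mat_mul, hg, hg1', h, Matrix.smul_mul, Matrix.one_mul, smul_smul]
        congr 1; ring)
      rw [← hm, hm1, map_mul, (hker g1).2 hg1, mul_one]

/-- **The local half of the recognition theorem.** -/
theorem Lift.iso_psu {G : Type u} [Group G] [Fintype G] [IsSimpleGroup G]
    {hF : Fintype.card F = q ^ 2} {z : ℕ} {t : G} {π : GU 2 F q →* G} (L : Lift hF z t π)
    (hq : Odd q) (ht : orderOf t = 2)
    (hidx : (Subgroup.centralizer ({t} : Set G)).index = q ^ 2 * (q ^ 2 - q + 1))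
    (hΦ : PhiLift q t (subK hF π hq) (subD hF π)) :
    Nonempty (G ≃* Cfsg.PSU 3 F q) := by
  obtain ⟨p, n, hp, hn, hqp⟩ : ∃ p n, p.Prime ∧ 1 ≤ n ∧ q = p ^ n := by
    obtain ⟨m, hp, hcard⟩ := FiniteField.card F (ringChar F)
    rw [hF] at hcard
    obtain ⟨n, -, rfl⟩ := (Nat.dvd_prime_pow hp).1 (hcard ▸ dvd_pow_self q two_ne_zero)
    refine ⟨ringChar F, n, hp, Nat.pos_of_ne_zero fun h => ?_, rfl⟩
    have := two_le_q hF
    rw [h, pow_zero] at this
    omega
  have hp2 : p ≠ 2 := by
    rintro rfl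
    rw [hqp] at hq
    exact (Nat.not_odd_iff_even.2 ((Nat.even_pow).2 ⟨even_two, by omega⟩)) hq
  have E := L.cent hq hp hp2 hn hqp ht hidx
  subst hqp
  obtain ⟨F', i1, i2, hF', ⟨e⟩⟩ := E.iso_psu hΦ
  obtain ⟨e'⟩ := H49.UChar.psu_card_equiv (n := 3) (E := F') (E' := F) (hF'.trans hF.symm) (p ^ n)
  exact ⟨e.trans e'⟩

end Cfsg.Agent.H68.UThree.Model
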