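import Cfsg.Agent.H68.UThree.Base

/-!
# The centraliser of a torus element of order `r`, for a prime `r` dividing `|Z|`

`η` generates the `(q + 1) / r ^ b`-th powers of the torus `D`.  The centraliser `M` of the element
`k` of order `r` in `⟨η⟩` has the `r`-part `R` of `D` as a normal subgroup and centralises `η`.
-/

set_option autoImplicit false
set_option linter.unusedSectionVars false
set_option linter.style.haveILetI false

namespace Cfsg.Agent.H68.UThree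

open Subgroup

universe u

/-- A prime `r` whose exact power `r ^ b` divides `z`, with the case `r = 3`, `b = 1` excluded. -/
structure Tor {G : Type u} [Group G] (p n z : ℕ) (t s : G) (K D : Subgroup G) (r b : ℕ) (η : G) :
    Prop where
  rprime : r.Prime
  one_le_b : 1 ≤ b
  dvd : r ^ b ∣ z
  big : r = 3 → 2 ≤ b
  mem : η ∈ D
  ord : orderOf η = r ^ b
  pow_mem : ∀ e ∈ D, e ^ ((p ^ n + 1) / r ^ b) ∈ zpowers η
  root : ∃ α ∈ D, α ^ ((p ^ n + 1) / r ^ b) = η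
  s_inv : s * η * s⁻¹ = η⁻¹
  cent : ∀ g ∈ centralizer ({t} : Set G), g * η ^ r ^ (b - 1) = η ^ r ^ (b - 1) * g → g ∈ D
  omega : ∀ u ∈ D, u ^ r = 1 → ∃ j : ℕ, ∃ k0 ∈ K, u = (η ^ r ^ (b - 1)) ^ j * k0

variable {G : Type u} [Group G] [Finite G] {p n z d r b : ℕ} {t i s w η : G}
  {K X Hb D : Subgroup G}

/-- `k` -/
local notation "kk" => η ^ r ^ (b - 1)

namespace Cent

variable (E : Cent p n z d t i s w K X Hb D)
include E

theorem exists_tor {r b : ℕ} (hr : r.Prime) (hb : 1 ≤ b) (hdvd : r ^ b ∣ z)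
    (hnd : ¬ r ^ (b + 1) ∣ z) (hbig : r = 3 → 2 ≤ b) : ∃ η, Tor p n z t s K D r b η := by
  obtain ⟨η, h1, h2, h3, h4, h5, h6, h7⟩ := E.torus r hr b hb hdvd hnd
  exact ⟨η, hr, hb, hdvd, hbig, h1, h2, h3, h4, h5, h6, h7⟩

theorem D_pow_comm {a c : G} (ha : a ∈ D) (hc : c ∈ D) : Commute a c := E.D_comm a ha c hc

end Cent

namespace Tor

variable (T : Tor p n z t s K D r b η) (E : Cent p n z d t i s w K X Hb D)
include T E

theorem r_odd : Odd r := by
  have h : r ∣ z := dvd_trans (dvd_pow_self r (by have := T.one_le_b; omega)) T.dvd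
  exact E.z_odd.of_dvd_nat h

theorem r_three : 3 ≤ r := by
  have := T.rprime.two_le
  obtain ⟨a, ha⟩ := T.r_odd E
  omega

theorem k_mem : kk ∈ D := Subgroup.pow_mem _ T.mem _

theorem k_ord : orderOf kk = r := by
  have hb := T.one_le_b
  rw [orderOf_pow_of_dvd (pow_ne_zero _ T.rprime.ne_zero) (by
    rw [T.ord]; exact pow_dvd_pow r (by omega)), T.ord, Nat.pow_div (by omega) T.rprime.pos]
  rw [show b - (b - 1) = 1 by omega, pow_one]

theorem D_le_M : D ≤ centralizer ({kk} : Set G) :=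
  fun e he => mem_cent.2 (E.D_pow_comm he (T.k_mem E))

/-- Elements normalising the torus act on `⟨η⟩`. -/
theorem eta_conj {g : G} (hg : ∀ e ∈ D, g * e * g⁻¹ ∈ D) : g * η * g⁻¹ ∈ zpowers η := by
  obtain ⟨α, hα, he⟩ := T.root
  have : g * η * g⁻¹ = (g * α * g⁻¹) ^ ((p ^ n + 1) / r ^ b) := by rw [conj_pow, he]
  rw [this]
  exact T.pow_mem _ (hg α hα)

variable [IsSimpleGroup G]

/-- An element of `M` permuting the three involutions of the torus cyclically. -/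
theorem exists_rho : ∃ ρ : G, ρ * η = η * ρ ∧ ρ * t * ρ⁻¹ = t * i ∧ ρ * i * ρ⁻¹ = t ∧
    ρ⁻¹ * t * ρ = i ∧ ρ⁻¹ * (t * i) * ρ = t ∧
    (∀ e ∈ D, ρ * e * ρ⁻¹ ∈ D) ∧ (∀ e ∈ D, ρ⁻¹ * e * ρ ∈ D) ∧
    ρ ∈ centralizer ({kk} : Set G) := by
  obtain ⟨v, hvt, hvi⟩ := E.exists_swap
  have hst : s * t * s⁻¹ = t := by rw [mem_cent.1 E.s_mem, mul_inv_cancel_right]
  have hsti : s * (t * i) * s⁻¹ = i := by
    rw [show s * (t * i) * s⁻¹ = (s * t * s⁻¹) * (s * i * s⁻¹) by group, hst, E.s_i, ← mul_assoc,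
      E.tt, one_mul]
  have hvi' : v⁻¹ * t * v = i := by rw [← hvi]; group
  have hvt' : v⁻¹ * i * v = t := by rw [← hvt]; group
  have hti : i * t = t * i := E.ti.symm
  set σ := v * s * v⁻¹ with hσ
  have hσi : σ * i * σ⁻¹ = i := by
    calc σ * i * σ⁻¹ = v * (s * (v⁻¹ * i * v) * s⁻¹) * v⁻¹ := by rw [hσ]; group
      _ = i := by rw [hvt', hst, hvt]
  have hσt : σ * t * σ⁻¹ = t * i := by
    calc σ * t * σ⁻¹ = v * (s * (v⁻¹ * t * v) * s⁻¹) * v⁻¹ := by rw [hσ]; group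
      _ = (v * t * v⁻¹) * (v * i * v⁻¹) := by rw [hvi', E.s_i]; group
      _ = t * i := by rw [hvt, hvi, hti]
  obtain ⟨j, hj⟩ := mem_zpowers_iff.1 (T.eta_conj E (g := v⁻¹) (fun e he =>
    E.D_conj (v := v⁻¹) (Or.inl ⟨by rw [inv_inv]; exact hvi', by rw [inv_inv]; exact hvt'⟩) he))
  rw [inv_inv] at hj
  have hσe : σ * η * σ⁻¹ = η⁻¹ := by
    calc σ * η * σ⁻¹ = v * (s * (v⁻¹ * η * v) * s⁻¹) * v⁻¹ := by rw [hσ]; group
      _ = v * (η ^ j)⁻¹ * v⁻¹ := by rw [← hj, ← conj_zpow, T.s_inv, inv_zpow]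
      _ = η⁻¹ := by rw [hj]; group
  refine ⟨σ * s, ?_⟩
  have h1 : σ * s * η = η * (σ * s) := by
    rw [← mul_inv_eq_iff_eq_mul]
    calc σ * s * η * (σ * s)⁻¹ = σ * (s * η * s⁻¹) * σ⁻¹ := by group
      _ = η := by rw [T.s_inv, ← conj_inv, hσe, inv_inv]
  have h2 : σ * s * t * (σ * s)⁻¹ = t * i := by
    calc σ * s * t * (σ * s)⁻¹ = σ * (s * t * s⁻¹) * σ⁻¹ := by group
      _ = t * i := by rw [hst, hσt]
  have h3 : σ * s * i * (σ * s)⁻¹ = t := by
    calc σ * s * i * (σ * s)⁻¹ = (σ * t * σ⁻¹) * (σ * i * σ⁻¹) := by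
          rw [show σ * s * i * (σ * s)⁻¹ = σ * (s * i * s⁻¹) * σ⁻¹ by group, E.s_i]; group
      _ = t := by rw [hσt, hσi, mul_assoc, E.ii, mul_one]
  have h4 : (σ * s)⁻¹ * t * (σ * s) = i := by rw [← h3]; group
  have h5 : (σ * s)⁻¹ * (t * i) * (σ * s) = t := by rw [← h2]; group
  refine ⟨h1, h2, h3, h4, h5, fun e he => E.D_conj (Or.inr (Or.inr (Or.inl ⟨h2, h3⟩))) he,
    fun e he => ?_, mem_cent.2 ((show Commute (σ * s) η from h1).pow_right _)⟩
  have h6 : (σ * s)⁻¹ * i * (σ * s) = t * i := by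
    calc (σ * s)⁻¹ * i * (σ * s)
        = ((σ * s)⁻¹ * t * (σ * s)) * ((σ * s)⁻¹ * (t * i) * (σ * s)) := by
          rw [show (σ * s)⁻¹ * t * (σ * s) * ((σ * s)⁻¹ * (t * i) * (σ * s)) =
            (σ * s)⁻¹ * (t * (t * i)) * (σ * s) by group, ← mul_assoc t t, E.tt, one_mul]
      _ = t * i := by rw [h4, h5, hti]
  have := E.D_conj (v := (σ * s)⁻¹)
    (Or.inr (Or.inr (Or.inr (Or.inl ⟨by rw [inv_inv]; exact h4, by rw [inv_inv]; exact h6⟩)))) he
  rwa [inv_inv] at this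

/-- The centraliser in `M` of an involution of the torus is the torus. -/
theorem cent_M {v x : G} (hv : v = t ∨ v = i ∨ v = t * i)
    (hx : x ∈ centralizer ({kk} : Set G)) (hxv : x * v = v * x) : x ∈ D := by
  obtain ⟨ρ, -, hρt, hρi, hρt', hρti', hD, hD', hρk⟩ := T.exists_rho E
  have hM := hρk
  have key : ∀ g ∈ centralizer ({kk} : Set G),
      (g * x * g⁻¹) * (g * v * g⁻¹) = (g * v * g⁻¹) * (g * x * g⁻¹) ∧
        g * x * g⁻¹ ∈ centralizer ({kk} : Set G) := fun g hg => ⟨by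
      calc g * x * g⁻¹ * (g * v * g⁻¹) = g * (x * v) * g⁻¹ := by group
        _ = g * (v * x) * g⁻¹ := by rw [hxv]
        _ = g * v * g⁻¹ * (g * x * g⁻¹) := by group,
      mul_mem (mul_mem hg hx) (inv_mem hg)⟩
  rcases hv with rfl | rfl | rfl
  · exact T.cent x (mem_cent.2 hxv) (mem_cent.1 hx)
  · obtain ⟨h1, h2⟩ := key ρ hρk
    rw [hρi] at h1
    have := hD' _ (T.cent _ (mem_cent.2 h1) (mem_cent.1 h2))
    simpa [mul_assoc] using this
  · obtain ⟨h1, h2⟩ := key ρ⁻¹ (inv_mem hρk)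
    rw [inv_inv] at h1 h2
    rw [hρti'] at h1
    have := hD _ (T.cent _ (mem_cent.2 h1) (mem_cent.1 h2))
    simpa [mul_assoc] using this

theorem t_mem_D : t ∈ D := E.mem_D.2 ⟨rfl, E.ti⟩

/-- The involutions of `M` are conjugate to `t` in `M`. -/
theorem invol_M {x : G} (hx : x ∈ centralizer ({kk} : Set G)) (hx2 : orderOf x = 2) :
    ∃ m ∈ centralizer ({kk} : Set G), m * t * m⁻¹ = x := by
  set M := centralizer ({kk} : Set G) with hM
  haveI := Fact.mk Nat.prime_two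
  have htM : t ∈ M := T.D_le_M E (T.t_mem_D E)
  obtain ⟨P, hP⟩ := (IsPGroup.of_card (G := zpowers (⟨t, htM⟩ : M)) (n := 1)
    (by rw [Nat.card_zpowers, Subgroup.orderOf_mk, E.ht, pow_one])).exists_le_sylow (p := 2)
  -- an involution of the centre of `P`
  haveI : Nontrivial (P : Subgroup M) := ⟨⟨⟨⟨t, htM⟩, hP (mem_zpowers _)⟩, 1, fun e => by
    have h := E.ht
    rw [show t = 1 from congrArg (fun a : (P : Subgroup M) => ((a : M) : G)) e, orderOf_one] at h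
    omega⟩⟩
  haveI := P.isPGroup'.center_nontrivial
  obtain ⟨⟨⟨⟨u, huM⟩, huP⟩, huZ⟩, hu2⟩ := exists_prime_orderOf_dvd_card'
    (G := center (P : Subgroup M)) 2 (by
      obtain ⟨j, hj⟩ := IsPGroup.iff_card.1 (P.isPGroup'.to_subgroup (center (P : Subgroup M)))
      rw [hj]
      refine dvd_pow_self 2 ?_
      rintro rfl
      rw [pow_zero] at hj
      exact absurd hj (ne_of_gt Finite.one_lt_card))
  rw [Subgroup.orderOf_mk, Subgroup.orderOf_mk, Subgroup.orderOf_mk] at hu2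
  have hc : ∀ y : M, y ∈ P → (y : G) * u = u * y := fun y hy =>
    congrArg (fun a : (P : Subgroup M) => ((a : M) : G)) (mem_center_iff.1 huZ ⟨y, hy⟩)
  have huD : u ∈ D := T.cent_M E (Or.inl rfl) huM (hc ⟨t, htM⟩ (hP (mem_zpowers _))).symm
  have hPD : ∀ y : M, y ∈ P → (y : G) ∈ D := fun y hy =>
    T.cent_M E (E.D_invol u huD hu2) y.2 (hc y hy)
  obtain ⟨Q, hQ⟩ := (IsPGroup.of_card (G := zpowers (⟨x, hx⟩ : M)) (n := 1)
    (by rw [Nat.card_zpowers, Subgroup.orderOf_mk, hx2, pow_one])).exists_le_sylow (p := 2)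
  obtain ⟨m, hm⟩ := MulAction.exists_smul_eq M Q P
  have h1 : m * ⟨x, hx⟩ * m⁻¹ ∈ (P : Subgroup M) := by
    rw [← hm]
    exact ⟨⟨x, hx⟩, hQ (mem_zpowers _), rfl⟩
  obtain ⟨m', hm', e⟩ : ∃ m' ∈ M, m' * t * m'⁻¹ = (m : G) * x * (m : G)⁻¹ := by
    obtain ⟨ρ, -, hρt, hρi, hρt', -, -, -, hρk⟩ := T.exists_rho E
    rcases E.D_invol _ (hPD _ h1) (by simpa [orderOf_conj] using hx2) with e | e | e
    · exact ⟨1, one_mem _, by simpa using e.symm⟩
    · exact ⟨ρ⁻¹, inv_mem hρk, by rw [inv_inv, hρt']; simpa using e.symm⟩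
    · exact ⟨ρ, hρk, by rw [hρt]; simpa using e.symm⟩
  refine ⟨(m : G)⁻¹ * m', mul_mem (inv_mem m.2) hm', ?_⟩
  calc (m : G)⁻¹ * m' * t * ((m : G)⁻¹ * m')⁻¹ = (m : G)⁻¹ * (m' * t * m'⁻¹) * m := by group
    _ = x := by rw [e]; group

omit [IsSimpleGroup G] in
theorem rpow_mem_D_comm {x : G} {a : ℕ} (hx : x ∈ D) (hxa : x ^ r ^ a = 1) :
    Odd (orderOf x) := by
  exact ((T.r_odd E).pow).of_dvd_nat (orderOf_dvd_of_pow_eq_one hxa)

/-- The `r`-part of the torus is normal in `M`. -/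
theorem conj_rpart {g x : G} (hg : g ∈ centralizer ({kk} : Set G)) (hx : x ∈ D) {a : ℕ}
    (hxa : x ^ r ^ a = 1) : g * x * g⁻¹ ∈ D := by
  classical
  set M := centralizer ({kk} : Set G) with hM
  let N : Subgroup M :=
    { carrier := {m | ∀ e ∈ D, (m : G) * e * (m : G)⁻¹ ∈ D ∧ (m : G)⁻¹ * e * m ∈ D}
      one_mem' := fun e he => by simpa using he
      mul_mem' := fun {m₁ m₂} h₁ h₂ e he => ⟨by
          simpa [mul_assoc] using (h₁ _ (h₂ e he).1).1, by
          simpa [mul_assoc] using (h₂ _ (h₁ e he).2).2⟩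
      inv_mem' := fun {m} h e he => ⟨by simpa using (h e he).2, by simpa using (h e he).1⟩ }
  by_cases hNtop : N = ⊤
  · have hgN : (⟨g, hg⟩ : M) ∈ N := hNtop ▸ mem_top _
    exact (hgN x hx).1
  have hDN : ∀ e (he : e ∈ D), (⟨e, T.D_le_M E he⟩ : M) ∈ N := fun e he f hf =>
    ⟨mul_mem (mul_mem he hf) (inv_mem he), mul_mem (mul_mem (inv_mem he) hf) he⟩
  obtain ⟨ρ, -, hρt, hρi, hρt', hρti', hD, hD', hρk⟩ := T.exists_rho E
  have hρN : (⟨ρ, hρk⟩ : M) ∈ N := fun e he => ⟨hD e he, hD' e he⟩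
  have hinv : ∀ m : M, m ∈ N → orderOf (m : G) = 2 → ∃ n : M, n ∈ N ∧ (n : G) * t * (n : G)⁻¹ = m := by
    intro m hm hm2
    have h2 : (m : G) * m = 1 := by rw [← pow_two, ← hm2, pow_orderOf_eq_one]
    have hminv : (m : G)⁻¹ = m := inv_eq_of_mul_eq_one_left h2
    have hj : ∀ e ∈ D, orderOf e = 2 → orderOf ((m : G) * e * (m : G)⁻¹) = 2 := fun e _ he2 => by
      rw [orderOf_conj, he2]
    have hiD : i ∈ D := E.mem_D.2 ⟨E.ti.symm, rfl⟩
    have hmD : (m : G) ∈ D := by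
      rcases E.D_invol _ (hm t (T.t_mem_D E)).1 (hj t (T.t_mem_D E) E.ht) with e | e | e
      · exact T.cent_M E (Or.inl rfl) m.2 (mul_inv_eq_iff_eq_mul.1 e)
      · refine T.cent_M E (Or.inr (Or.inr rfl)) m.2 ?_
        have e' : (m : G) * i * (m : G)⁻¹ = t := by
          rw [← e, hminv]
          calc (m : G) * (m * t * m) * m = (m * m) * t * (m * m) := by group
            _ = t := by rw [h2, one_mul, mul_one]
        rw [← mul_inv_eq_iff_eq_mul]
        calc (m : G) * (t * i) * (m : G)⁻¹ = (m * t * (m : G)⁻¹) * (m * i * (m : G)⁻¹) := by group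
          _ = t * i := by rw [e, e', E.ti]
      · refine T.cent_M E (Or.inr (Or.inl rfl)) m.2 ?_
        have e' : (m : G) * (t * i) * (m : G)⁻¹ = t := by
          rw [← e, hminv]
          calc (m : G) * (m * t * m) * m = (m * m) * t * (m * m) := by group
            _ = t := by rw [h2, one_mul, mul_one]
        rw [← mul_inv_eq_iff_eq_mul]
        calc (m : G) * i * (m : G)⁻¹ = (m * t * (m : G)⁻¹) * (m * (t * i) * (m : G)⁻¹) := by
              rw [show (m : G) * t * (m : G)⁻¹ * (m * (t * i) * (m : G)⁻¹) =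
                (m : G) * (t * (t * i)) * (m : G)⁻¹ by group, ← mul_assoc t t, E.tt, one_mul]
          _ = i := by rw [e, e', mul_assoc, ← E.ti, ← mul_assoc, E.tt, one_mul]
    rcases E.D_invol _ hmD hm2 with e | e | e
    · exact ⟨1, one_mem N, by simp [e]⟩
    · exact ⟨⟨ρ, hρk⟩⁻¹, inv_mem hρN, by simp [hρt', e]⟩
    · exact ⟨⟨ρ, hρk⟩, hρN, by simp [hρt, e]⟩
  have hSE : Cfsg.IsStronglyEmbedded N := by
    refine ⟨hNtop, even_iff_two_dvd.2 ?_, fun g' hg' => ?_⟩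
    · have h := orderOf_dvd_natCard (⟨⟨t, T.D_le_M E (T.t_mem_D E)⟩, hDN t (T.t_mem_D E)⟩ : N)
      rwa [Subgroup.orderOf_mk, Subgroup.orderOf_mk, E.ht] at h
    · by_contra hev
      rw [Nat.not_odd_iff_even, even_iff_two_dvd] at hev
      haveI := Fact.mk Nat.prime_two
      obtain ⟨⟨j, hjM⟩, hj2⟩ := exists_prime_orderOf_dvd_card' 2 hev
      obtain ⟨hj, hjg⟩ := Subgroup.mem_inf.1 hjM
      rw [Subgroup.orderOf_mk] at hj2
      obtain ⟨y, hy, rfl⟩ := hjg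
      rw [MulEquiv.coe_toMonoidHom, MulEquiv.orderOf_eq, ← Subgroup.orderOf_coe] at hj2
      obtain ⟨n₁, hn₁, e₁⟩ := hinv _ hj (by
        simpa [orderOf_conj] using hj2)
      obtain ⟨n₂, hn₂, e₂⟩ := hinv y hy hj2
      apply hg'
      have hc : n₁⁻¹ * g' * n₂ ∈ N := by
        refine hDN _ (T.cent_M E (Or.inl rfl) (n₁⁻¹ * g' * n₂).2 ?_)
        rw [← mul_inv_eq_iff_eq_mul]
        simp only [Subgroup.coe_mul, InvMemClass.coe_inv]
        calc (n₁ : G)⁻¹ * g' * n₂ * t * ((n₁ : G)⁻¹ * g' * n₂)⁻¹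
            = (n₁ : G)⁻¹ * (g' * (n₂ * t * (n₂ : G)⁻¹) * (g' : G)⁻¹) * n₁ := by group
          _ = t := by
            rw [e₂]
            simp only [MulEquiv.coe_toMonoidHom, MulAut.conj_apply, Subgroup.coe_mul,
              InvMemClass.coe_inv] at e₁
            rw [← e₁]; group
      have := mul_mem (mul_mem hn₁ hc) (inv_mem hn₂)
      simpa [mul_assoc] using this
  -- the `r`-part of `D` in `N`
  let R' : Subgroup N :=
    { carrier := {m | ((m : M) : G) ∈ D ∧ ∃ c, ((m : M) : G) ^ r ^ c = 1}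
      one_mem' := ⟨one_mem D, 0, by simp⟩
      mul_mem' := fun {m₁ m₂} h₁ h₂ => by
        obtain ⟨hd₁, c₁, hc₁⟩ := h₁
        obtain ⟨hd₂, c₂, hc₂⟩ := h₂
        refine ⟨mul_mem hd₁ hd₂, c₁ + c₂, ?_⟩
        show (((m₁ : M) : G) * ((m₂ : M) : G)) ^ r ^ (c₁ + c₂) = 1
        rw [(E.D_pow_comm hd₁ hd₂).mul_pow, pow_add, pow_mul, hc₁, one_pow, one_mul,
          mul_comm (r ^ c₁), pow_mul, hc₂, one_pow]
      inv_mem' := fun {m} h => by
        obtain ⟨hd, c, hc⟩ := h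
        exact ⟨inv_mem hd, c, by simp [hc]⟩ }
  haveI : R'.Normal := ⟨fun m hm n => by
    obtain ⟨hd, c, hc⟩ := hm
    refine ⟨?_, c, ?_⟩
    · simpa using (n.2 _ hd).1
    · show (((n : M) : G) * ((m : M) : G) * ((n : M) : G)⁻¹) ^ r ^ c = 1
      rw [conj_pow, hc, mul_one, mul_inv_cancel]⟩
  have hR' : Odd (Nat.card R') := by
    by_contra hev
    rw [Nat.not_odd_iff_even, even_iff_two_dvd] at hev
    haveI := Fact.mk Nat.prime_two
    obtain ⟨⟨m, hm⟩, hm2⟩ := exists_prime_orderOf_dvd_card' 2 hev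
    rw [Subgroup.orderOf_mk, ← Subgroup.orderOf_coe, ← Subgroup.orderOf_coe] at hm2
    obtain ⟨hd, c, hc⟩ := hm
    have := T.rpow_mem_D_comm E hd hc
    rw [hm2] at this
    exact (by decide : ¬ Odd 2) this
  set O := ((Cfsg.oddCore M).map M.subtype) with hO
  have hOodd : Odd (Nat.card O) := by
    rw [hO, Subgroup.card_map_of_injective M.subtype_injective]
    exact Cores.odd_card_oddCore
  haveI : (Cfsg.oddCore M).Characteristic := Cores.pPrimeCore_characteristic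
  have hxO : (⟨x, T.D_le_M E hx⟩ : M) ∈ Cfsg.oddCore M :=
    S1221.result N hSE ⟨⟨_, hDN x hx⟩, Cores.le_oddCore (N := R') hR' ⟨hx, a, hxa⟩, rfl⟩
  have hgO : g * x * g⁻¹ ∈ O :=
    ⟨⟨g, hg⟩ * ⟨x, T.D_le_M E hx⟩ * ⟨g, hg⟩⁻¹,
      (inferInstance : (Cfsg.oddCore M).Normal).conj_mem _ hxO _, rfl⟩
  have hOM : ∀ y ∈ O, y ∈ M := by rintro _ ⟨y, -, rfl⟩; exact y.2
  have hOn : ∀ m ∈ M, ∀ y ∈ O, m * y * m⁻¹ ∈ O := by
    rintro m hm _ ⟨y, hy, rfl⟩
    exact ⟨⟨m, hm⟩ * y * ⟨m, hm⟩⁻¹,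
      (inferInstance : (Cfsg.oddCore M).Normal).conj_mem y hy _, rfl⟩
  have htc : t⁻¹ = t := inv_eq_of_mul_eq_one_left E.tt
  have hic : i⁻¹ = i := inv_eq_of_mul_eq_one_left E.ii
  have hiD : i ∈ D := E.mem_D.2 ⟨E.ti.symm, rfl⟩
  have hOt : t * (g * x * g⁻¹) * t = g * x * g⁻¹ := by
    refine H92.commute_of_fours hOodd E.ii E.tt E.ti.symm
      (fun y hy => by simpa [hic] using hOn i (T.D_le_M E hiD) y hy)
      (fun y hy => by simpa [htc] using hOn t (T.D_le_M E (T.t_mem_D E)) y hy) ?_ ?_ _ hgO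
    all_goals intro y hy he
    all_goals
      have hyD : y ∈ D := by
        first
          | refine T.cent_M E (Or.inr (Or.inl rfl)) (hOM y hy) ?_
            calc y * i = i * y * i * i := by rw [he]
              _ = i * y := by rw [mul_assoc (i * y), E.ii, mul_one]
          | refine T.cent_M E (Or.inr (Or.inr rfl)) (hOM y hy) ?_
            have hv : t * i * (t * i) = 1 := by
              rw [show t * i * (t * i) = t * (i * t) * i by group, ← E.ti, ← mul_assoc, E.tt,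
                one_mul, E.ii]
            rw [← E.ti] at he
            calc y * (t * i) = t * i * y * (t * i) * (t * i) := by rw [he]
              _ = t * i * y := by rw [mul_assoc (t * i * y), hv, mul_one]
      rw [← (E.mem_D.1 hyD).1, mul_assoc, E.tt, mul_one]
  refine T.cent_M E (Or.inl rfl) (hOM _ hgO) ?_
  calc g * x * g⁻¹ * t = t * (g * x * g⁻¹) * t * t := by rw [hOt]
    _ = t * (g * x * g⁻¹) := by rw [mul_assoc (t * _), E.tt, mul_one]

end Tor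

end Cfsg.Agent.H68.UThree
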