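import Cfsg.Agent.H68.UThree.Norm3Local

/-!
# The centraliser of a torus element of order `r`: orders
-/

set_option autoImplicit false
set_option linter.unusedSectionVars false
set_option linter.style.haveILetI false

namespace Cfsg.Agent.H68.UThree

open Subgroup

universe u

variable {G : Type u} [Group G] [Finite G] {p n z d r b : ℕ} {t i s w η : G}
  {K X Hb D : Subgroup G}

/-- `k` -/
local notation "kk" => η ^ r ^ (b - 1)

/-- `R` is the `r`-part of the torus. -/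
structure IsRPart (r : ℕ) (D R : Subgroup G) : Prop where
  le : R ≤ D
  pgroup : IsPGroup r R
  mem : ∀ x ∈ D, (∃ c, x ^ r ^ c = 1) → x ∈ R
  dvd : ∀ j, r ^ j ∣ Nat.card D → r ^ j ∣ Nat.card R

namespace Tor

variable (T : Tor p n z t s K D r b η) (E : Cent p n z d t i s w K X Hb D)
include T E

theorem exists_rpart : ∃ R, IsRPart r D R := by
  haveI := Fact.mk T.rprime
  haveI : IsMulCommutative D := ⟨⟨fun a c => Subtype.ext (E.D_comm a a.2 c c.2)⟩⟩
  obtain ⟨S⟩ := (inferInstance : Nonempty (Sylow r D))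
  haveI : (S : Subgroup D).Normal := Subgroup.normal_of_comm _
  refine ⟨(S : Subgroup D).map D.subtype, Subgroup.map_subtype_le _, S.isPGroup'.map _, ?_, ?_⟩
  · rintro x hx ⟨c, hc⟩
    obtain ⟨Q, hQ⟩ := (show IsPGroup r (zpowers (⟨x, hx⟩ : D)) from by
      rintro ⟨y, hy⟩
      obtain ⟨j, rfl⟩ := mem_zpowers_iff.1 hy
      refine ⟨c, Subtype.ext (Subtype.ext ?_)⟩
      show (x ^ j) ^ r ^ c = 1
      rw [← zpow_natCast, ← zpow_mul, mul_comm, zpow_mul, zpow_natCast, hc, one_zpow]).exists_le_sylow (p := r)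
    haveI := Sylow.unique_of_normal S inferInstance
    exact ⟨⟨x, hx⟩, Subsingleton.elim Q S ▸ hQ (mem_zpowers _), rfl⟩
  · intro j hj
    rw [Subgroup.card_map_of_injective D.subtype_injective]
    rw [← (S : Subgroup D).card_mul_index] at hj
    exact (Nat.Coprime.dvd_of_dvd_mul_right
      ((T.rprime.coprime_iff_not_dvd.2 S.not_dvd_index).pow_left j) hj)

theorem r_dvd_qp : r ∣ p ^ n + 1 := by
  rw [← E.zd]
  exact Dvd.dvd.mul_right (dvd_trans (dvd_pow_self r (by have := T.one_le_b; omega)) T.dvd) d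

theorem pow_dvd_card {j : ℕ} (hj : r ^ j ∣ Nat.card G) :
    r ^ j ∣ 3 * Nat.card D ∧ (r ≠ 3 → r ^ j ∣ Nat.card D) := by
  have hrq := T.r_dvd_qp E
  have hr3 := T.r_three E
  set q := p ^ n with hq
  have hq3 := E.q_ge
  have hA : r ^ j ∣ (q ^ 2 - q + 1) * Nat.card D := by
    rw [← (centralizer ({t} : Set G)).card_mul_index, E.card_C, E.index_C,
      show q ^ 2 - 1 = (q + 1) * (q - 1) by simpa using Nat.sq_sub_sq q 1,
      show q * ((q + 1) * (q - 1)) * d * (q ^ 2 * (q ^ 2 - q + 1)) =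
        (q ^ 3 * (q - 1)) * ((q ^ 2 - q + 1) * ((q + 1) * d)) by ring, ← E.card_D] at hj
    refine Nat.Coprime.dvd_of_dvd_mul_left (Nat.Coprime.pow_left j ?_) hj
    refine T.rprime.coprime_iff_not_dvd.2 fun h => ?_
    rcases (Nat.Prime.dvd_mul T.rprime).1 h with h | h
    · have h1 : r ∣ 1 := (Nat.dvd_add_right (T.rprime.dvd_of_dvd_pow h)).1 hrq
      exact T.rprime.one_lt.ne' (Nat.dvd_one.1 h1)
    · have h1 : r ∣ (q + 1) - (q - 1) := Nat.dvd_sub hrq h
      rw [show q + 1 - (q - 1) = 2 by omega] at h1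
      have := Nat.le_of_dvd two_pos h1
      omega
  obtain ⟨a, c, ha, hc, hac⟩ := Nat.dvd_mul.1 hA
  obtain ⟨l, -, rfl⟩ := (Nat.dvd_prime_pow T.rprime).1 (Dvd.intro c hac)
  have hA' : ((q ^ 2 - q + 1 : ℕ) : ℤ) = (q : ℤ) ^ 2 - q + 1 := by
    rw [Nat.cast_add, Nat.cast_sub (Nat.le_self_pow two_ne_zero q)]
    push_cast; ring
  have h3 : 1 ≤ l → r = 3 ∧ l ≤ 1 := by
    intro hl
    have h1 : (r : ℤ) ∣ 3 := by
      have e1 : (r : ℤ) ∣ (q : ℤ) + 1 := by exact_mod_cast hrq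
      have e2 : (r : ℤ) ∣ ((q ^ 2 - q + 1 : ℕ) : ℤ) :=
        Int.natCast_dvd_natCast.2 (dvd_trans (dvd_pow_self r (by omega)) ha)
      rw [hA'] at e2
      have := dvd_sub e2 (e1.mul_right ((q : ℤ) - 2))
      ring_nf at this
      exact this
    have hr : r = 3 := (Nat.prime_dvd_prime_iff_eq T.rprime Nat.prime_three).1
      (Int.natCast_dvd_natCast.1 h1)
    refine ⟨hr, ?_⟩
    by_contra hl2
    subst hr
    obtain ⟨m, hm⟩ := hrq
    have e2 : (9 : ℤ) ∣ ((q ^ 2 - q + 1 : ℕ) : ℤ) :=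
      Int.natCast_dvd_natCast.2 (dvd_trans (pow_dvd_pow 3 (show 2 ≤ l by omega)) ha)
    have hm' : (q : ℤ) = 3 * m - 1 := by
      have : ((q + 1 : ℕ) : ℤ) = ((3 * m : ℕ) : ℤ) := congrArg _ hm
      push_cast at this; omega
    rw [hA', hm'] at e2
    obtain ⟨m', hm''⟩ := e2
    ring_nf at hm''
    omega
  rw [← hac]
  rcases Nat.eq_zero_or_pos l with rfl | hl
  · rw [pow_zero, one_mul]
    exact ⟨Dvd.dvd.mul_left hc 3, fun _ => hc⟩
  · obtain ⟨rfl, hl1⟩ := h3 hl
    obtain rfl : l = 1 := by omega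
    exact ⟨by rw [pow_one]; exact Nat.mul_dvd_mul_left 3 hc, fun h => absurd rfl h⟩

theorem pow_dvd_rpart {R : Subgroup G} (hR : IsRPart r D R) {j : ℕ} (hj : r ^ j ∣ Nat.card G) :
    r ^ j ∣ 3 * Nat.card R ∧ (r ≠ 3 → r ^ j ∣ Nat.card R) := by
  obtain ⟨h1, h2⟩ := T.pow_dvd_card E hj
  obtain ⟨a, c, ha, hc, hac⟩ := Nat.dvd_mul.1 h1
  obtain ⟨l, -, rfl⟩ := (Nat.dvd_prime_pow T.rprime).1 (Dvd.intro_left a hac)
  exact ⟨hac ▸ Nat.mul_dvd_mul ha (hR.dvd l hc), fun h => hR.dvd j (h2 h)⟩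

omit [Finite G] in
theorem eta_pow_r : η ^ r ^ b = 1 := by rw [← T.ord, pow_orderOf_eq_one]

/-- A root of `η` in the `r`-part of the torus. -/
theorem root_r : ∃ γ ∈ D, (∃ a, γ ^ r ^ a = 1) ∧ γ ^ ((p ^ n + 1) / r ^ b) = η := by
  obtain ⟨α, hα, he⟩ := T.root
  obtain ⟨a, o, hnd, ho⟩ :=
    Nat.exists_eq_pow_mul_and_not_dvd (isOfFinOrder_of_finite α).orderOf_pos.ne' r T.rprime.ne_one
  have hco : Nat.Coprime o (orderOf η) := by
    rw [T.ord]
    exact (T.rprime.coprime_iff_not_dvd.2 hnd).symm.pow_right b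
  obtain ⟨l, hl⟩ := exists_pow_eq_self_of_coprime hco
  refine ⟨α ^ (o * l), Subgroup.pow_mem _ hα _, ⟨a, ?_⟩, ?_⟩
  · rw [← pow_mul, show o * l * r ^ a = (r ^ a * o) * l by ring, pow_mul, ← ho, pow_orderOf_eq_one,
      one_pow]
  · rw [← pow_mul, mul_comm, pow_mul, he, pow_mul, hl]

variable [IsSimpleGroup G]

theorem R_conj {R : Subgroup G} (hR : IsRPart r D R) {g x : G}
    (hg : g ∈ centralizer ({kk} : Set G)) (hx : x ∈ R) : g * x * g⁻¹ ∈ R := by
  obtain ⟨c, hc⟩ := hR.pgroup ⟨x, hx⟩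
  have hc' : x ^ r ^ c = 1 := congrArg Subtype.val hc
  refine hR.mem _ (T.conj_rpart E hg (hR.le hx) hc') ⟨c, ?_⟩
  rw [conj_pow, hc', mul_one, mul_inv_cancel]

/-- Elements of `M` act on `⟨η⟩`. -/
theorem eta_conj_M {g : G} (hg : g ∈ centralizer ({kk} : Set G)) :
    g * η * g⁻¹ ∈ zpowers η := by
  obtain ⟨γ, hγ, ⟨a, ha⟩, he⟩ := T.root_r E
  have h := T.pow_mem _ (T.conj_rpart E hg hγ ha)
  rwa [conj_pow, he] at h

/-- `R` and one further `r`-element of `M` generate an `r`-group. -/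
theorem sup_zpowers {R : Subgroup G} (hR : IsRPart r D R) {y : G}
    (hy : y ∈ centralizer ({kk} : Set G)) {a : ℕ} (hya : y ^ r ^ a = 1) :
    IsPGroup r (R ⊔ zpowers y : Subgroup G) ∧
      y ^ (R.subgroupOf (R ⊔ zpowers y)).index ∈ R := by
  set H := R ⊔ zpowers y with hH
  have hn : ∀ h ∈ H, ∀ x ∈ R, h * x * h⁻¹ ∈ R := by
    intro h hh
    have hM : H ≤ centralizer ({kk} : Set G) :=
      sup_le (fun x hx => T.D_le_M E (hR.le hx)) (by rwa [zpowers_le])
    exact fun x hx => T.R_conj E hR (hM hh) hx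
  haveI : (R.subgroupOf H).Normal := ⟨fun x hx h => hn h h.2 x hx⟩
  refine ⟨?_, ?_⟩
  · refine hR.pgroup.to_sup_of_normal_left' (K := zpowers y) ?_ ?_
    · exact fun g => by
        obtain ⟨j, hj⟩ := mem_zpowers_iff.1 g.2
        refine ⟨a, Subtype.ext ?_⟩
        rw [SubgroupClass.coe_pow, ← hj, ← zpow_natCast, ← zpow_mul, mul_comm, zpow_mul,
          zpow_natCast, hya, one_zpow, OneMemClass.coe_one]
    · intro g hg
      exact (Subgroup.mem_normalizer_iff).2 fun x => by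
        constructor
        · exact fun hx => hn g (Subgroup.mem_sup_right hg) x hx
        · intro hx
          have := hn g⁻¹ (inv_mem (Subgroup.mem_sup_right hg : g ∈ H)) _ hx
          simpa [mul_assoc] using this
  · exact Subgroup.pow_index_mem (R.subgroupOf H) ⟨y, Subgroup.mem_sup_right (mem_zpowers y)⟩

/-- The `r`-elements of `M`. -/
theorem rpow_mem {R : Subgroup G} (hR : IsRPart r D R) {y : G}
    (hy : y ∈ centralizer ({kk} : Set G)) {a : ℕ} (hya : y ^ r ^ a = 1) :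
    y ^ 3 ∈ R ∧ (r ≠ 3 → y ∈ R) := by
  haveI := Fact.mk T.rprime
  obtain ⟨hH, hyi⟩ := T.sup_zpowers E hR hy hya
  obtain ⟨j, hj⟩ := IsPGroup.iff_card.1 hH
  obtain ⟨h1, h2⟩ := T.pow_dvd_rpart E hR (j := j) (hj ▸ Subgroup.card_subgroup_dvd_card _)
  rw [← hj, ← (R.subgroupOf (R ⊔ zpowers y)).card_mul_index,
    Nat.card_congr (Subgroup.subgroupOfEquivOfLe (le_sup_left : R ≤ R ⊔ zpowers y)).toEquiv] at h1 h2
  rw [mul_comm 3] at h1
  have h3 := Nat.dvd_of_mul_dvd_mul_left Nat.card_pos h1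
  refine ⟨?_, fun h => ?_⟩
  · obtain ⟨m, hm⟩ := h3
    rw [hm, pow_mul]
    exact Subgroup.pow_mem _ hyi m
  · have h4 := h2 h
    nth_rewrite 2 [← mul_one (Nat.card R)] at h4
    rw [Nat.dvd_one.1 (Nat.dvd_of_mul_dvd_mul_left Nat.card_pos h4), pow_one] at hyi
    exact hyi

/-- **`η` is central in `M`.** -/
theorem eta_central {g : G} (hg : g ∈ centralizer ({kk} : Set G)) : g * η = η * g := by
  classical
  haveI := Fact.mk T.rprime
  set M := centralizer ({kk} : Set G) with hM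
  set K0 := (centralizer ({η} : Set G)).subgroupOf M with hK0
  haveI : K0.Normal := ⟨fun x hx m => by
    rw [hK0, Subgroup.mem_subgroupOf, mem_cent] at hx ⊢
    obtain ⟨j, hj⟩ := mem_zpowers_iff.1 (T.eta_conj_M E (inv_mem m.2))
    rw [inv_inv] at hj
    have hc : Commute (x : G) (η ^ j) := (show Commute (x : G) η from hx).zpow_right j
    rw [hj] at hc
    calc ((m : G) * x * (m : G)⁻¹) * η = m * ((x : G) * ((m : G)⁻¹ * η * m)) * (m : G)⁻¹ := by group
      _ = m * (((m : G)⁻¹ * η * m) * x) * (m : G)⁻¹ := by rw [hc.eq]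
      _ = η * ((m : G) * x * (m : G)⁻¹) := by group⟩
  -- a power of each element fixes `η`
  obtain ⟨m, hm⟩ := mem_zpowers_iff.1 (T.eta_conj_M E hg)
  have hk : kk ^ m = kk := by
    calc kk ^ m = (η ^ m) ^ r ^ (b - 1) := by rw [← zpow_natCast, ← zpow_natCast, ← zpow_mul, ← zpow_mul, mul_comm]
      _ = g * kk * g⁻¹ := by rw [hm, conj_pow]
      _ = kk := by rw [mem_cent.1 hg, mul_inv_cancel_right]
  have hm1 : (r : ℤ) ∣ m - 1 := by
    have h := orderOf_dvd_iff_zpow_eq_one.2 (show kk ^ (m - 1) = 1 by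
      rw [zpow_sub_one, hk, mul_inv_cancel])
    rwa [T.k_ord E] at h
  have hpow : ∀ l : ℕ, g ^ l * η * (g ^ l)⁻¹ = η ^ m ^ l := by
    intro l
    induction l with
    | zero => simp
    | succ l ih =>
      calc g ^ (l + 1) * η * (g ^ (l + 1))⁻¹ = g * (g ^ l * η * (g ^ l)⁻¹) * g⁻¹ := by
            rw [pow_succ']; group
        _ = η ^ m ^ (l + 1) := by rw [ih, ← conj_zpow, ← hm, ← zpow_mul, pow_succ']
  have hfix : g ^ r ^ (b - 1) ∈ centralizer ({η} : Set G) := by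
    rw [mem_cent, ← mul_inv_eq_iff_eq_mul, hpow]
    have h := dvd_sub_pow_of_dvd_sub (p := r) (a := m) (b := 1) (by simpa using hm1) (b - 1)
    rw [one_pow, Nat.sub_add_cancel T.one_le_b] at h
    rw [show m ^ r ^ (b - 1) = 1 + (m ^ r ^ (b - 1) - 1) by ring, zpow_add, zpow_one,
      orderOf_dvd_iff_zpow_eq_one.1 (show (orderOf η : ℤ) ∣ m ^ r ^ (b - 1) - 1 by
        rw [T.ord]; exact_mod_cast h), mul_one]
  -- the index is prime to `r`
  have hidx : ¬ r ∣ K0.index := by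
    intro hdiv
    obtain ⟨R, hR⟩ := T.exists_rpart E
    obtain ⟨jR, hjR⟩ := IsPGroup.iff_card.1 hR.pgroup
    have hRK : R ≤ centralizer ({η} : Set G) ⊓ M := fun x hx =>
      ⟨mem_cent.2 (E.D_comm x (hR.le hx) η T.mem), T.D_le_M E (hR.le hx)⟩
    obtain ⟨j, hjK, hjlt⟩ : ∃ j, r ^ j ∣ Nat.card K0 ∧ (jR ≤ j ∧ (r = 3 → jR < j)) := by
      have hK0card : Nat.card K0 = Nat.card (centralizer ({η} : Set G) ⊓ M : Subgroup G) := by
        rw [hK0, ← Subgroup.inf_subgroupOf_right]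
        exact Nat.card_congr (Subgroup.subgroupOfEquivOfLe inf_le_right).toEquiv
      by_cases h3 : r = 3
      · obtain ⟨ρ, hρη, hρt, hρi, -, -, -, -, hρk⟩ := T.exists_rho E
        obtain ⟨a, o, hnd, ho⟩ := Nat.exists_eq_pow_mul_and_not_dvd
          (isOfFinOrder_of_finite ρ).orderOf_pos.ne' r T.rprime.ne_one
        have hya : (ρ ^ o) ^ r ^ a = 1 := by
          rw [← pow_mul, mul_comm, ← ho, pow_orderOf_eq_one]
        obtain ⟨hH, -⟩ := T.sup_zpowers E hR (Subgroup.pow_mem _ hρk o) hya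
        obtain ⟨j, hj⟩ := IsPGroup.iff_card.1 hH
        refine ⟨j, ?_, ?_⟩
        · rw [hK0card, ← hj]
          refine Subgroup.card_dvd_of_le (sup_le hRK ?_)
          rw [zpowers_le]
          exact ⟨Subgroup.pow_mem _ (mem_cent.2 hρη) o, Subgroup.pow_mem _ hρk o⟩
        · have hlt : r ^ jR < r ^ j := by
            rw [← hjR, ← hj]
            refine lt_of_le_of_ne (Nat.le_of_dvd Nat.card_pos (Subgroup.card_dvd_of_le le_sup_left))
              fun e => ?_
            have hmem : ρ ^ o ∈ R := by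
              rw [Subgroup.eq_of_le_of_card_ge (le_sup_left : R ≤ R ⊔ zpowers (ρ ^ o)) e.ge]
              exact Subgroup.mem_sup_right (mem_zpowers _)
            have hρ3 : ρ ^ 3 ∈ D := by
              refine T.cent_M E (Or.inl rfl) (Subgroup.pow_mem _ hρk 3) ?_
              rw [← mul_inv_eq_iff_eq_mul]
              have hρti : ρ * (t * i) * ρ⁻¹ = i := by
                rw [show ρ * (t * i) * ρ⁻¹ = (ρ * t * ρ⁻¹) * (ρ * i * ρ⁻¹) by group, hρt, hρi,
                  E.ti, mul_assoc, E.tt, mul_one]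
              calc ρ ^ 3 * t * (ρ ^ 3)⁻¹ = ρ * (ρ * (ρ * t * ρ⁻¹) * ρ⁻¹) * ρ⁻¹ := by
                    rw [pow_three]; group
                _ = ρ * (ρ * (t * i) * ρ⁻¹) * ρ⁻¹ := by rw [hρt]
                _ = t := by rw [hρti, hρi]
            have hρD : ρ ∈ D := by
              have hco : Nat.Coprime o 3 := ((Nat.prime_three.coprime_iff_not_dvd).2
                (h3 ▸ hnd)).symm
              have := Nat.Coprime.gcd_eq_one hco
              have hb := Nat.gcd_eq_gcd_ab o 3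
              rw [this, Nat.cast_one] at hb
              rw [← zpow_one ρ, hb, zpow_add, zpow_mul, zpow_mul, zpow_natCast, zpow_natCast]
              exact mul_mem (Subgroup.zpow_mem _ (hR.le hmem) _) (Subgroup.zpow_mem _ hρ3 _)
            have e1 := (E.mem_D.1 hρD).1
            rw [← mul_inv_eq_iff_eq_mul, hρt] at e1
            have := E.hi
            rw [mul_eq_left.1 e1, orderOf_one] at this
            omega
          have := (Nat.pow_lt_pow_iff_right T.rprime.one_lt).1 hlt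
          exact ⟨this.le, fun _ => this⟩
      · exact ⟨jR, by rw [hK0card, ← hjR]; exact Subgroup.card_dvd_of_le hRK, le_rfl,
          fun h => absurd h h3⟩
    have hG : r ^ (j + 1) ∣ Nat.card G := by
      refine dvd_trans ?_ (Subgroup.card_subgroup_dvd_card M)
      rw [← K0.card_mul_index, pow_succ]
      exact Nat.mul_dvd_mul hjK hdiv
    obtain ⟨h1, h2⟩ := T.pow_dvd_rpart E hR hG
    by_cases h3 : r = 3
    · subst h3
      rw [hjR, ← pow_succ', Nat.pow_dvd_pow_iff_le_right (by norm_num)] at h1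
      have := hjlt.2 rfl
      omega
    · have h4 := h2 h3
      rw [hjR, Nat.pow_dvd_pow_iff_le_right T.rprime.one_lt] at h4
      omega
  have h1 : (⟨g, hg⟩ : M) ^ r ^ (b - 1) ∈ K0 := by
    rw [hK0, Subgroup.mem_subgroupOf]; simpa using hfix
  have h2 : (⟨g, hg⟩ : M) ^ K0.index ∈ K0 := Subgroup.pow_index_mem K0 _
  have h3 : (⟨g, hg⟩ : M) ∈ K0 := by
    have hb := Nat.gcd_eq_gcd_ab (r ^ (b - 1)) K0.index
    rw [((T.rprime.coprime_iff_not_dvd.2 hidx).pow_left (b - 1)).gcd_eq_one, Nat.cast_one] at hb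
    rw [← zpow_one (⟨g, hg⟩ : M), hb, zpow_add, zpow_mul, zpow_mul, zpow_natCast, zpow_natCast]
    exact mul_mem (Subgroup.zpow_mem _ h1 _) (Subgroup.zpow_mem _ h2 _)
  exact mem_cent.1 h3

/-- The elements of order `r` in `R` fixed by an element of `M` outside the torus. -/
theorem fixed_mem {y u : G} (hy : y ∈ centralizer ({kk} : Set G)) (hyD : y ∉ D) (hu : u ∈ D)
    (hur : u ^ r = 1) (hyu : y * u = u * y) : u ∈ zpowers kk := by
  obtain ⟨j, k0, hk0, rfl⟩ := T.omega u hu hur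
  by_cases h : k0 = 1
  · rw [h, mul_one]
    exact Subgroup.pow_mem _ (mem_zpowers _) j
  exfalso
  refine hyD (T.cent y ?_ (mem_cent.1 hy))
  rw [← E.cent_K hk0 h, mem_cent]
  have h1 : Commute y (kk ^ j) := (show Commute y kk from mem_cent.1 hy).pow_right j
  have h2 : Commute y (kk ^ j * k0) := hyu
  have h3 := h1.inv_right.mul_right h2
  rw [inv_mul_cancel_left] at h3
  exact h3

end Tor

end Cfsg.Agent.H68.UThree
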