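import Cfsg.Agent.H68.UThree.Norm3Order

/-!
# A linear character of the centraliser of a torus element, by transfer
-/

set_option autoImplicit false
set_option linter.unusedSectionVars false
set_option linter.style.haveILetI false

namespace Cfsg.Agent.H68.UThree

open Subgroup

universe u

variable {G : Type u} [Group G] [Finite G] {p n z d r b : ℕ} {t i s w η : G}
  {K X Hb D : Subgroup G}

/-- `k` -/
local notation "kk" => η ^ r ^ (b - 1)

namespace Tor

variable (T : Tor p n z t s K D r b η) (E : Cent p n z d t i s w K X Hb D)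
include T E

/-- A non-trivial element of `⟨η⟩` generates a subgroup containing `k`. -/
theorem kk_mem {x : G} (hx : x ∈ zpowers η) (h1 : x ≠ 1) : kk ∈ zpowers x := by
  obtain ⟨j, rfl⟩ : ∃ j : ℕ, η ^ j = x := by
    rw [← mem_powers_iff_mem_zpowers] at hx
    exact hx
  have hj0 : j ≠ 0 := by
    rintro rfl
    exact h1 (pow_zero η)
  obtain ⟨l, j', hnd, rfl⟩ := Nat.exists_eq_pow_mul_and_not_dvd hj0 r T.rprime.ne_one
  have hl : l < b := by
    by_contra hle
    apply h1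
    rw [pow_mul, show r ^ l = r ^ b * r ^ (l - b) by rw [← pow_add]; congr 1; omega, pow_mul,
      T.eta_pow_r E, one_pow, one_pow]
  obtain ⟨m, hm⟩ := exists_pow_eq_self_of_coprime (x := kk) (n := j')
    (by rw [T.k_ord E]; exact (T.rprime.coprime_iff_not_dvd.2 hnd).symm)
  have e : (η ^ (r ^ l * j')) ^ r ^ (b - 1 - l) = kk ^ j' := by
    rw [← pow_mul, ← pow_mul]
    congr 1
    rw [mul_right_comm, ← pow_add]
    congr 2
    omega
  rw [← hm, ← e]
  exact Subgroup.pow_mem _ (Subgroup.pow_mem _ (mem_zpowers _) _) _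

variable [IsSimpleGroup G]

/-- **The character.** -/
theorem exists_lambda :
    ∃ l : centralizer ({kk} : Set G) →* ℂˣ,
      (∀ x, l x ≠ 1 → kk ∈ zpowers (x : G)) ∧
      ∃ γ γ' : centralizer ({kk} : Set G), (γ' : G) = s⁻¹ * γ * s ∧ l γ' = (l γ)⁻¹ ∧
        l γ ^ 2 ≠ 1 := by
  classical
  haveI := Fact.mk T.rprime
  obtain ⟨R, hR⟩ := T.exists_rpart E
  set M := centralizer ({kk} : Set G) with hM
  set e := (p ^ n + 1) / r ^ b with he
  have hRM : R ≤ M := fun x hx => T.D_le_M E (hR.le hx)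
  set Rm := R.subgroupOf M with hRm
  haveI : IsMulCommutative Rm :=
    ⟨⟨fun a c => Subtype.ext (Subtype.ext (E.D_comm _ (hR.le a.2) _ (hR.le c.2)))⟩⟩
  letI : CommGroup Rm := { (inferInstance : Group Rm) with mul_comm := mul_comm' }
  haveI : NeZero (Monoid.exponent Rm) := ⟨Monoid.exponent_ne_zero_of_finite⟩
  have hkM : kk ∈ M := mem_cent.2 rfl
  have hkR : kk ∈ R := hR.mem _ (T.k_mem E) ⟨1, orderOf_dvd_iff_pow_eq_one.1 (by rw [pow_one, T.k_ord E])⟩
  obtain ⟨ψ, hψ⟩ := CommGroup.exists_apply_ne_one_of_hasEnoughRootsOfUnity Rm ℂ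
    (a := (⟨⟨kk, hkM⟩, hkR⟩ : Rm)) (fun h => by
      have h1 : kk = 1 := congrArg (fun a : Rm => ((a : M) : G)) h
      have := T.k_ord E
      rw [h1, orderOf_one] at this
      exact T.rprime.ne_one this.symm)
  set τ : M →* ℂˣ := MonoidHom.transfer ψ with hτ
  set l : M →* ℂˣ := (powMonoidHom e).comp τ with hl
  have hl_apply : ∀ x : M, l x = τ (x ^ e) := fun x => by rw [map_pow]; rfl
  have hηM : η ∈ M := T.D_le_M E T.mem
  -- the values on `⟨η⟩`
  have hval : ∀ (j : ℤ), ∃ h : (⟨η, hηM⟩ : M) ^ (j * Rm.index) ∈ Rm,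
      τ (⟨η, hηM⟩ ^ j) = ψ ⟨_, h⟩ := by
    intro j
    have hc : ∀ m : M, m * (⟨η, hηM⟩ : M) = ⟨η, hηM⟩ * m :=
      fun m => Subtype.ext (T.eta_central E m.2)
    have key : ∀ (k : ℕ) (g₀ : M), g₀⁻¹ * ((⟨η, hηM⟩ : M) ^ j) ^ k * g₀ ∈ Rm →
        g₀⁻¹ * ((⟨η, hηM⟩ : M) ^ j) ^ k * g₀ = ((⟨η, hηM⟩ : M) ^ j) ^ k := fun k g₀ _ => by
      rw [mul_assoc, ← (((show Commute g₀ (⟨η, hηM⟩ : M) from hc g₀).zpow_right j).pow_right k).eq,
        inv_mul_cancel_left]
    have h := MonoidHom.transfer_eq_pow ψ ((⟨η, hηM⟩ : M) ^ j) key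
    have e1 : ((⟨η, hηM⟩ : M) ^ j) ^ Rm.index = (⟨η, hηM⟩ : M) ^ (j * Rm.index) := by
      rw [zpow_mul, zpow_natCast]
    refine ⟨e1 ▸ MonoidHom.transfer_eq_pow_aux _ key, ?_⟩
    rw [hτ, h]
    exact congrArg ψ (Subtype.ext e1)
  -- the index of `R`
  have hidx : ¬ r ^ b ∣ Rm.index := by
    intro hdiv
    obtain ⟨jR, hjR⟩ := IsPGroup.iff_card.1 hR.pgroup
    have hG : r ^ (jR + b) ∣ Nat.card G := by
      refine dvd_trans ?_ (Subgroup.card_subgroup_dvd_card M)
      rw [← Rm.card_mul_index, pow_add,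
        Nat.card_congr (Subgroup.subgroupOfEquivOfLe hRM).toEquiv, ← hjR]
      exact Nat.mul_dvd_mul_left _ hdiv
    obtain ⟨h1, h2⟩ := T.pow_dvd_rpart E hR hG
    by_cases h3 : r = 3
    · have hb := T.big h3
      subst h3
      rw [hjR, ← pow_succ', Nat.pow_dvd_pow_iff_le_right (by norm_num)] at h1
      omega
    · have h4 := h2 h3
      rw [hjR, Nat.pow_dvd_pow_iff_le_right T.rprime.one_lt] at h4
      have := T.one_le_b
      omega
  -- the values are `r`-power roots of unity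
  obtain ⟨A, hA⟩ := IsPGroup.iff_card.1 hR.pgroup
  have hτA : ∀ x : M, τ x ^ r ^ A = 1 := by
    intro x
    haveI : Fintype (Quotient (MulAction.orbitRel (zpowers x) (M ⧸ Rm))) := Fintype.ofFinite _
    rw [hτ, MonoidHom.transfer_eq_prod_quotient_orbitRel_zpowers_quot ψ x, ← Finset.prod_pow]
    refine Finset.prod_eq_one fun q _ => ?_
    rw [← map_pow, ← hA, ← Nat.card_congr (Subgroup.subgroupOfEquivOfLe hRM).toEquiv,
      pow_card_eq_one', map_one]
  have hlA : ∀ x : M, l x ^ r ^ A = 1 := fun x => by rw [hl_apply]; exact hτA _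
  -- `r`-elements outside the kernel
  have helem : ∀ y : M, (∃ a, (y : G) ^ r ^ a = 1) → l y ≠ 1 → kk ∈ zpowers (y : G) := by
    rintro y ⟨a, hya⟩ hy
    obtain ⟨h3, h4⟩ := T.rpow_mem E hR y.2 hya
    by_cases hyR : (y : G) ∈ R
    · obtain ⟨j, hj⟩ := mem_zpowers_iff.1 (T.pow_mem _ (hR.le hyR))
      have hye : (y : G) ^ e ≠ 1 := by
        intro h
        apply hy
        rw [hl_apply, show y ^ e = 1 from Subtype.ext (by simpa using h), map_one]
      exact (zpowers_le.2 (Subgroup.pow_mem _ (mem_zpowers _) e))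
        (T.kk_mem E (mem_zpowers_iff.2 ⟨j, hj⟩) hye)
    have hr : r = 3 := by
      by_contra h
      exact hyR (h4 h)
    by_cases hy3 : (y : G) ^ 3 = 1
    · exfalso
      apply hy
      haveI : Fintype (Quotient (MulAction.orbitRel (zpowers y) (M ⧸ Rm))) := Fintype.ofFinite _
      rw [hl, MonoidHom.comp_apply, hτ,
        MonoidHom.transfer_eq_prod_quotient_orbitRel_zpowers_quot ψ y]
      rw [Finset.prod_eq_one fun q _ => ?_, map_one]
      have hy3' : y ^ 3 = 1 := Subtype.ext (by simpa using hy3)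
      have hper : Function.minimalPeriod (y • ·) q.out = 3 := by
        have hd : Function.minimalPeriod (y • ·) q.out ∣ 3 := by
          refine Function.IsPeriodicPt.minimalPeriod_dvd ?_
          show (y • ·)^[3] q.out = q.out
          rw [smul_iterate]; simp [hy3']
        rcases (Nat.dvd_prime Nat.prime_three).1 hd with h1 | h1
        · exfalso
          have h2 := QuotientGroup.out_conj_pow_minimalPeriod_mem Rm y q.out
          rw [h1, pow_one] at h2
          have h5 := T.R_conj E hR q.out.out.2 (x := (q.out.out : G)⁻¹ * y * q.out.out) h2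
          exact hyR (by simpa [mul_assoc] using h5)
        · exact h1
      rw [show (⟨_, QuotientGroup.out_conj_pow_minimalPeriod_mem Rm y q.out⟩ : Rm) = 1 from
        Subtype.ext (by simp only [hper, hy3']; simp), map_one]
    have hyD : (y : G) ∉ D := fun h => hyR (hR.mem _ h ⟨a, hya⟩)
    subst hr
    obtain ⟨a', -, ha'⟩ := (Nat.dvd_prime_pow Nat.prime_three).1 (orderOf_dvd_of_pow_eq_one hya)
    have ha2 : 2 ≤ a' := by
      by_contra h
      apply hy3
      exact orderOf_dvd_iff_pow_eq_one.1 (ha' ▸ (Nat.pow_dvd_pow 3 (show a' ≤ 1 by omega)).trans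
        (dvd_of_eq (pow_one 3)))
    set u := (y : G) ^ 3 ^ (a' - 1) with hu
    have hu3 : u ^ 3 = 1 := by
      rw [hu, ← pow_mul, ← pow_succ, Nat.sub_add_cancel (by omega), ← ha', pow_orderOf_eq_one]
    have hu1 : u ≠ 1 := by
      intro h
      have := orderOf_dvd_of_pow_eq_one h
      rw [ha', Nat.pow_dvd_pow_iff_le_right (by norm_num)] at this
      omega
    have huR : u ∈ R := by
      rw [hu, show a' - 1 = (a' - 2) + 1 by omega, pow_succ', pow_mul]
      exact Subgroup.pow_mem _ h3 _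
    have hmem := T.fixed_mem E y.2 hyD (hR.le huR) hu3
      ((Commute.refl (y : G)).pow_right _)
    exact (zpowers_le.2 (Subgroup.pow_mem _ (mem_zpowers _) _))
      (T.kk_mem E ((zpowers_le.2 (Subgroup.pow_mem _ (mem_zpowers η) _)) hmem) hu1)
  refine ⟨l, fun x hx => ?_, ?_⟩
  · obtain ⟨a, o, hnd, ho⟩ := Nat.exists_eq_pow_mul_and_not_dvd
      (isOfFinOrder_of_finite (x : G)).orderOf_pos.ne' r T.rprime.ne_one
    have hya : ((x ^ o : M) : G) ^ r ^ a = 1 := by
      rw [SubgroupClass.coe_pow, ← pow_mul, mul_comm, ← ho, pow_orderOf_eq_one]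
    have hly : l (x ^ o) ≠ 1 := by
      intro h
      apply hx
      rw [map_pow] at h
      have hg := pow_gcd_eq_one.2 ⟨h, hlA x⟩
      rwa [((T.rprime.coprime_iff_not_dvd.2 hnd).symm.pow_right A).gcd_eq_one, pow_one] at hg
    have := helem _ ⟨a, hya⟩ hly
    rw [SubgroupClass.coe_pow] at this
    exact (zpowers_le.2 (Subgroup.pow_mem _ (mem_zpowers _) o)) this
  · obtain ⟨γ, hγ, ⟨a, hγa⟩, hγe⟩ := T.root_r E
    have hsM : ∀ x ∈ M, s⁻¹ * x * s ∈ M := by
      intro x hx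
      have hsk : s * kk * s⁻¹ = kk⁻¹ := by rw [← conj_pow, T.s_inv, inv_pow]
      rw [hM, mem_cent] at hx ⊢
      have h1 : Commute x kk⁻¹ := (show Commute x kk from hx).inv_right
      rw [← hsk] at h1
      calc s⁻¹ * x * s * kk = s⁻¹ * (x * (s * kk * s⁻¹)) * s := by group
        _ = s⁻¹ * ((s * kk * s⁻¹) * x) * s := by rw [h1.eq]
        _ = kk * (s⁻¹ * x * s) := by group
    refine ⟨⟨γ, T.D_le_M E hγ⟩, ⟨s⁻¹ * γ * s, hsM γ (T.D_le_M E hγ)⟩, rfl, ?_, ?_⟩
    · have hsη : s⁻¹ * η * s = η⁻¹ := by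
        calc s⁻¹ * η * s = s⁻¹ * (s * η * s⁻¹)⁻¹ * s := by rw [T.s_inv, inv_inv]
          _ = η⁻¹ := by group
      rw [hl_apply, hl_apply, ← map_inv]
      congr 1
      refine Subtype.ext ?_
      show (s⁻¹ * γ * s) ^ e = (γ ^ e)⁻¹
      have h := conj_pow (i := e) (a := s⁻¹) (b := γ)
      rw [inv_inv] at h
      rw [h, hγe, hsη]
    · obtain ⟨h, hv⟩ := hval 1
      have e1 : l ⟨γ, T.D_le_M E hγ⟩ = ψ ⟨_, h⟩ := by
        rw [hl_apply, ← hv, zpow_one]
        exact congrArg τ (Subtype.ext hγe)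
      intro h2
      have hb2 : l ⟨γ, T.D_le_M E hγ⟩ = 1 := by
        have hg := pow_gcd_eq_one.2 ⟨h2, hlA ⟨γ, T.D_le_M E hγ⟩⟩
        rwa [((Nat.coprime_two_left.2 (T.r_odd E)).pow_right A).gcd_eq_one, pow_one] at hg
      rw [e1] at hb2
      -- `ψ` is injective on `⟨η⟩`
      have hne : η ^ (((1 : ℤ) * Rm.index)) ≠ 1 := by
        rw [one_mul, zpow_natCast]
        exact fun h => hidx (T.ord ▸ orderOf_dvd_of_pow_eq_one h)
      obtain ⟨m, hm⟩ := mem_zpowers_iff.1
        (T.kk_mem E (mem_zpowers_iff.2 ⟨(1 : ℤ) * Rm.index, rfl⟩) hne)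
      apply hψ
      rw [show (⟨⟨kk, hkM⟩, hkR⟩ : Rm) = (⟨_, h⟩ : Rm) ^ m from
        Subtype.ext (Subtype.ext (by simpa using hm.symm)), map_zpow, hb2, one_zpow]

end Tor

end Cfsg.Agent.H68.UThree
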