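import Cfsg.Agent.H68.UThree.Base

/-!
# The centraliser of the root group: the elements of order prime to `d`
-/

set_option autoImplicit false
set_option linter.unusedSectionVars false
set_option linter.style.haveILetI false

namespace Cfsg.Agent.H68.UThree

open Subgroup

universe u

variable {G : Type u} [Group G] [Finite G] [IsSimpleGroup G] {p n z d : ℕ} {t i s w : G}
  {K X Hb D : Subgroup G}

/-- `O` is the set of elements of order prime to `d` in the centraliser of `X`. -/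
structure IsCore (d : ℕ) (X O : Subgroup G) : Prop where
  le : O ≤ centralizer (X : Set G)
  mem_iff : ∀ g, g ∈ O ↔ g ∈ centralizer (X : Set G) ∧ Nat.Coprime (orderOf g) d

namespace Cent

variable (E : Cent p n z d t i s w K X Hb D)
include E

theorem p_ndvd_d : ¬ p ∣ d := by
  intro h
  have h1 : p ∣ p ^ n + 1 := E.zd ▸ h.mul_left z
  have h2 : p ∣ 1 := (Nat.dvd_add_right (dvd_pow_self p (by have := E.one_le; omega))).1 h1
  exact E.prime.one_lt.ne' (Nat.dvd_one.1 h2)

theorem two_dvd_d : 2 ∣ d := by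
  have h : Even (z * d) := by
    rw [E.zd]
    exact E.q_odd.add_one
  exact even_iff_two_dvd.1 ((Nat.even_mul.1 h).resolve_left (Nat.not_even_iff_odd.2 E.z_odd))

theorem K_X : ∀ g ∈ K, g ∈ X → g = 1 := by
  intro g hK hX
  refine orderOf_eq_one_iff.1 (Nat.eq_one_of_dvd_coprimes
    (a := p ^ n) (b := d) ((E.prime.coprime_iff_not_dvd.2 E.p_ndvd_d).pow_left n) ?_ ?_)
  · rw [← E.card_X]; exact Subgroup.orderOf_dvd_natCard _ hX
  · rw [← E.card_K]; exact Subgroup.orderOf_dvd_natCard _ hK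

theorem X_K_comm {x k : G} (hx : x ∈ X) (hk : k ∈ K) : Commute x k :=
  (E.K_comm k hk x (E.X_le hx)).symm

theorem K_le_CX : K ≤ centralizer (X : Set G) :=
  fun _ hk => Subgroup.mem_centralizer_iff.2 fun _ hx => (E.X_K_comm hx hk).eq

theorem X_le_CX : X ≤ centralizer (X : Set G) :=
  fun _ hx => Subgroup.mem_centralizer_iff.2 fun y hy => E.X_comm y hy _ hx

theorem CX_inter {g : G} (hg : g ∈ centralizer (X : Set G))
    (hgC : g ∈ centralizer ({t} : Set G)) : ∃ x ∈ X, ∃ k ∈ K, g = x * k :=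
  E.cent_X g hgC fun x hx => (Subgroup.mem_centralizer_iff.1 hg x hx).symm

/-- An element conjugating a non-trivial element of `K` into `K` lies in `C`. -/
theorem mem_C_of_conj {g k : G} (hk : k ∈ K) (hk1 : k ≠ 1) (h : g * k * g⁻¹ ∈ K) :
    g ∈ centralizer ({t} : Set G) := by
  have hk1' : g * k * g⁻¹ ≠ 1 := fun e => hk1 (conj_eq_one_iff.1 e)
  -- `g t g⁻¹` is central in `C`
  have hcen : ∀ c ∈ centralizer ({t} : Set G), Commute (g * t * g⁻¹) c := by
    intro c hc
    rw [← E.cent_K h hk1'] at hc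
    have h1 : g⁻¹ * c * g ∈ centralizer ({k} : Set G) := mem_conj_cent hc
    rw [E.cent_K hk hk1, mem_cent] at h1
    calc g * t * g⁻¹ * c = g * (t * (g⁻¹ * c * g)) * g⁻¹ := by group
      _ = g * ((g⁻¹ * c * g) * t) * g⁻¹ := by rw [h1]
      _ = c * (g * t * g⁻¹) := by group
  have hj : g * t * g⁻¹ ∈ D := E.mem_D.2 ⟨hcen t E.t_mem, hcen i E.i_mem⟩
  rw [mem_cent, ← mul_inv_eq_iff_eq_mul]
  rcases E.D_invol _ hj (by rw [orderOf_conj, E.ht]) with e | e | e
  · exact e
  · exfalso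
    have h1 : Commute i s := e ▸ hcen s E.s_mem
    have h2 := E.s_i
    rw [← h1.eq, mul_inv_cancel_right] at h2
    have := E.ht
    rw [mul_eq_right.1 h2.symm, orderOf_one] at this
    omega
  · exfalso
    have h1 : Commute (t * i) s := e ▸ hcen s E.s_mem
    have h3 : s * (t * i) * s⁻¹ = i := by
      rw [show s * (t * i) * s⁻¹ = (s * t * s⁻¹) * (s * i * s⁻¹) by group, mem_cent.1 E.s_mem,
        mul_inv_cancel_right, E.s_i, ← mul_assoc, E.tt, one_mul]
    rw [← h1.eq, mul_inv_cancel_right] at h3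
    have := E.ht
    rw [mul_eq_right.1 h3, orderOf_one] at this
    omega

/-- The `l`-elements of `C(X) ∩ C` lie in `K`. -/
theorem mem_K_of_pow {l : ℕ} (hl : l.Prime) (hld : l ∣ d) {g : G}
    (hg : g ∈ centralizer (X : Set G)) (hgC : g ∈ centralizer ({t} : Set G)) {a : ℕ}
    (ha : g ^ l ^ a = 1) : g ∈ K := by
  obtain ⟨x, hx, k, hk, rfl⟩ := E.CX_inter hg hgC
  rw [(E.X_K_comm hx hk).mul_pow, mul_eq_one_iff_eq_inv] at ha
  have h1 : x ^ l ^ a = 1 :=
    E.K_X _ (ha ▸ inv_mem (pow_mem hk _)) (pow_mem hx _)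
  have h2 : x = 1 := orderOf_eq_one_iff.1 (Nat.eq_one_of_dvd_coprimes (a := p ^ n) (b := l ^ a)
    (((Nat.coprime_primes E.prime hl).2 (fun e => E.p_ndvd_d (e ▸ hld))).pow n a)
    (by rw [← E.card_X]; exact Subgroup.orderOf_dvd_natCard _ hx)
    (orderOf_dvd_of_pow_eq_one h1))
  rw [h2, one_mul]
  exact hk

/-- A Sylow subgroup of `C(X)` for a prime dividing `d` lies in `K` after conjugation, and has a
normal complement. -/
theorem exists_sylow {l : ℕ} (hl : l.Prime) (hld : l ∣ d) :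
    ∃ P : Sylow l (centralizer (X : Set G)), (∀ y : centralizer (X : Set G), y ∈ P → (y : G) ∈ K) ∧
      ∃ (N : Subgroup (centralizer (X : Set G))), ¬ l ∣ Nat.card N ∧
        ∀ g : centralizer (X : Set G), Nat.Coprime (orderOf g) l → g ∈ N := by
  haveI := Fact.mk hl
  set CX := centralizer (X : Set G) with hCX
  obtain ⟨⟨k0, hk0⟩, hk0o⟩ := exists_prime_orderOf_dvd_card' (G := K) l (by rw [E.card_K]; exact hld)
  rw [Subgroup.orderOf_mk] at hk0o
  have hk01 : k0 ≠ 1 := fun e => by rw [e, orderOf_one] at hk0o; exact hl.ne_one hk0o.symm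
  set k' : CX := ⟨k0, E.K_le_CX hk0⟩ with hk'
  obtain ⟨P, hP⟩ := (IsPGroup.of_card (G := zpowers k') (n := 1)
    (by rw [Nat.card_zpowers, Subgroup.orderOf_mk, hk0o, pow_one])).exists_le_sylow (p := l)
  have hkP : k' ∈ P := hP (mem_zpowers k')
  have hpow : ∀ y : CX, y ∈ P → ∃ a, (y : G) ^ l ^ a = 1 := by
    intro y hy
    obtain ⟨a, ha⟩ := P.isPGroup' ⟨y, hy⟩
    exact ⟨a, by simpa using congrArg (fun x : (P : Subgroup CX) => ((x : CX) : G)) ha⟩
  have hPK : ∀ y : CX, y ∈ P → (y : G) ∈ K := by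
    haveI : Group.IsNilpotent (P : Subgroup CX) := P.isPGroup'.isNilpotent
    set A : Subgroup (P : Subgroup CX) := (K.comap CX.subtype).subgroupOf (P : Subgroup CX) with hA
    suffices htop : A = ⊤ by
      intro y hy
      have : (⟨y, hy⟩ : (P : Subgroup CX)) ∈ A := htop ▸ mem_top _
      exact this
    by_contra hne
    obtain ⟨y, hyN, hyA⟩ := SetLike.exists_of_lt
      (Group.normalizerCondition_of_isNilpotent A (lt_top_iff_ne_top.mpr hne))
    have h1 : y * ⟨k', hkP⟩ * y⁻¹ ∈ A := (mem_normalizer_iff.mp hyN _).mp hk0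
    obtain ⟨a, ha⟩ := hpow _ y.2
    exact hyA (E.mem_K_of_pow hl hld (y : CX).2 (E.mem_C_of_conj hk0 hk01 h1) ha)
  refine ⟨P, hPK, ?_⟩
  have hN : normalizer (P : Set CX) ≤ centralizer (P : Set CX) := by
    intro g hg
    have h1 := (mem_normalizer_iff.mp hg k').mp hkP
    have hgC : (g : G) ∈ centralizer ({t} : Set G) :=
      E.mem_C_of_conj hk0 hk01 (hPK _ h1)
    exact Subgroup.mem_centralizer_iff.2 fun y hy => Subtype.ext (E.K_comm _ (hPK y hy) _ hgC)
  refine ⟨(MonoidHom.transferSylow P hN).ker, MonoidHom.not_dvd_card_ker_transferSylow P hN,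
    fun g hg => ?_⟩
  obtain ⟨a, ha⟩ := P.isPGroup' (MonoidHom.transferSylow P hN g)
  rw [MonoidHom.mem_ker]
  refine orderOf_eq_one_iff.1 (Nat.eq_one_of_dvd_coprimes (b := l ^ a) (hg.pow_right a)
    (orderOf_map_dvd _ g) (orderOf_dvd_of_pow_eq_one ha))

/-- The core. -/
theorem exists_core : ∃ O : Subgroup G, IsCore d X O := by
  classical
  let O : Subgroup G :=
    { carrier := {g | g ∈ centralizer (X : Set G) ∧ Nat.Coprime (orderOf g) d}
      one_mem' := ⟨one_mem _, by rw [orderOf_one]; exact Nat.coprime_one_left d⟩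
      mul_mem' := fun {g h} hg hh => ⟨mul_mem hg.1 hh.1, Nat.coprime_of_dvd fun l hl hlo hld => by
        obtain ⟨P, -, N, hN, hmem⟩ := E.exists_sylow hl hld
        have h1 : ∀ x (hx : x ∈ centralizer (X : Set G)), Nat.Coprime (orderOf x) d →
            (⟨x, hx⟩ : centralizer (X : Set G)) ∈ N := fun x hx hco => hmem _ (by
          rw [Subgroup.orderOf_mk]
          exact hco.of_dvd_right hld)
        have h2 := Subgroup.orderOf_dvd_natCard _ (mul_mem (h1 g hg.1 hg.2) (h1 h hh.1 hh.2))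
        rw [← Subgroup.orderOf_coe] at h2
        exact hN (hlo.trans h2)⟩
      inv_mem' := fun {g} hg => ⟨inv_mem hg.1, by rw [orderOf_inv]; exact hg.2⟩ }
  exact ⟨O, fun g hg => hg.1, fun g => Iff.rfl⟩

end Cent

namespace IsCore

variable {O : Subgroup G} (IC : IsCore d X O) (E : Cent p n z d t i s w K X Hb D)
include IC E

theorem card_coprime : Nat.Coprime (Nat.card O) d :=
  Nat.coprime_of_dvd fun l hl hlO hld => by
    haveI := Fact.mk hl
    obtain ⟨⟨g, hg⟩, ho⟩ := exists_prime_orderOf_dvd_card' (G := O) l hlO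
    rw [Subgroup.orderOf_mk] at ho
    have h := ((IC.mem_iff g).1 hg).2
    rw [ho] at h
    exact (hl.coprime_iff_not_dvd.1 h) hld

theorem card_odd : Odd (Nat.card O) :=
  Nat.odd_iff.2 (Nat.two_dvd_ne_zero.1 fun h => absurd (Nat.eq_one_of_dvd_coprimes
    (IC.card_coprime E) h E.two_dvd_d) (by norm_num))

theorem X_le : X ≤ O := fun x hx => (IC.mem_iff x).2 ⟨E.X_le_CX hx,
  (((E.prime.coprime_iff_not_dvd.2 E.p_ndvd_d).pow_left n).of_dvd_left
    (by rw [← E.card_X]; exact Subgroup.orderOf_dvd_natCard _ hx))⟩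

theorem inter_C {g : G} (hg : g ∈ O) (hgC : g ∈ centralizer ({t} : Set G)) : g ∈ X := by
  obtain ⟨hgX, hco⟩ := (IC.mem_iff g).1 hg
  obtain ⟨x, hx, k, hk, rfl⟩ := E.CX_inter hgX hgC
  have hk1 : k = 1 := by
    have hkO : k ∈ O := by
      have := mul_mem (inv_mem (IC.X_le E hx)) hg
      rwa [inv_mul_cancel_left] at this
    exact orderOf_eq_one_iff.1 (Nat.eq_one_of_dvd_coprimes ((IC.mem_iff k).1 hkO).2 dvd_rfl
      (by rw [← E.card_K]; exact Subgroup.orderOf_dvd_natCard _ hk))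
  rw [hk1, mul_one]
  exact hx

/-- `N(X)` normalises the core. -/
theorem conj_mem {g y : G} (hg : ∀ x ∈ X, g * x * g⁻¹ ∈ X) (hy : y ∈ O) : g * y * g⁻¹ ∈ O := by
  obtain ⟨hyX, hco⟩ := (IC.mem_iff y).1 hy
  refine (IC.mem_iff _).2 ⟨Subgroup.mem_centralizer_iff.2 fun x hx => ?_, by rwa [orderOf_conj]⟩
  let f : X → X := fun a => ⟨g * a * g⁻¹, hg a a.2⟩
  have hf : Function.Injective f := fun a c h => by
    have := congrArg Subtype.val h
    exact Subtype.ext (mul_left_cancel (mul_right_cancel this))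
  obtain ⟨a, ha⟩ := Finite.surjective_of_injective hf ⟨x, hx⟩
  have e : g * (a : G) * g⁻¹ = x := congrArg Subtype.val ha
  rw [← e]
  calc g * (a : G) * g⁻¹ * (g * y * g⁻¹) = g * ((a : G) * y) * g⁻¹ := by group
    _ = g * (y * a) * g⁻¹ := by rw [Subgroup.mem_centralizer_iff.1 hyX a a.2]
    _ = g * y * g⁻¹ * (g * a * g⁻¹) := by group

/-- The `p`-elements normalising `X` lie in the core. -/
theorem mem_of_normalizes {y : G} (hy : ∀ x ∈ X, y * x * y⁻¹ ∈ X) {a : ℕ}
    (hya : y ^ p ^ a = 1) : y ∈ O := by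
  haveI := Fact.mk Nat.prime_two
  set CX := centralizer (X : Set G) with hCX
  have htX : t ∈ CX := E.K_le_CX E.t_K
  have hyt : y * t * y⁻¹ ∈ CX := Subgroup.mem_centralizer_iff.2 fun x hx => by
    let f : X → X := fun a => ⟨y * a * y⁻¹, hy a a.2⟩
    have hf : Function.Injective f := fun a c h => by
      have := congrArg Subtype.val h
      exact Subtype.ext (mul_left_cancel (mul_right_cancel this))
    obtain ⟨a, ha⟩ := Finite.surjective_of_injective hf ⟨x, hx⟩
    have e : y * (a : G) * y⁻¹ = x := congrArg Subtype.val ha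
    rw [← e]
    calc y * (a : G) * y⁻¹ * (y * t * y⁻¹) = y * ((a : G) * t) * y⁻¹ := by group
      _ = y * (t * a) * y⁻¹ := by rw [mem_cent.1 (E.X_le a.2)]
      _ = y * t * y⁻¹ * (y * a * y⁻¹) := by group
  obtain ⟨P, hPK, -⟩ := E.exists_sylow Nat.prime_two E.two_dvd_d
  obtain ⟨Q, hQ⟩ := (IsPGroup.of_card (G := zpowers (⟨_, hyt⟩ : CX)) (n := 1)
    (by rw [Nat.card_zpowers, Subgroup.orderOf_mk, orderOf_conj, E.ht, pow_one])).exists_le_sylow
      (p := 2)
  obtain ⟨c, hc⟩ := MulAction.exists_smul_eq CX Q P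
  have h1 : c * ⟨_, hyt⟩ * c⁻¹ ∈ (P : Subgroup CX) := by
    rw [← hc]
    exact ⟨⟨_, hyt⟩, hQ (mem_zpowers _), rfl⟩
  have h2 := hPK _ h1
  have h3 : ((c : G) * y) * t * ((c : G) * y)⁻¹ ∈ K := by
    simpa [mul_assoc] using h2
  have ht1 : t ≠ 1 := fun e => by have := E.ht; rw [e, orderOf_one] at this; omega
  have hcy := E.mem_C_of_conj E.t_K ht1 h3
  obtain ⟨x, hx, h, hh, he⟩ := E.norm_X _ hcy fun x hx => by
    have h4 := hy x hx
    have e : (c : G) * (y * x * y⁻¹) * (c : G)⁻¹ = y * x * y⁻¹ := by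
      rw [← Subgroup.mem_centralizer_iff.1 c.2 _ h4, mul_inv_cancel_right]
    rw [show (c : G) * y * x * ((c : G) * y)⁻¹ = (c : G) * (y * x * y⁻¹) * (c : G)⁻¹ by group, e]
    exact h4
  have hy' : y = ((c : G)⁻¹ * x) * h := by rw [mul_assoc, ← he]; group
  have hCXn : ∀ v ∈ CX, h * v * h⁻¹ ∈ CX := by
    intro v hv
    refine Subgroup.mem_centralizer_iff.2 fun x' hx' => ?_
    have hx'' : h⁻¹ * x' * h ∈ X := by
      have := E.Hb_X h⁻¹ (inv_mem hh) x' hx'
      rwa [inv_inv] at this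
    calc x' * (h * v * h⁻¹) = h * ((h⁻¹ * x' * h) * v) * h⁻¹ := by group
      _ = h * (v * (h⁻¹ * x' * h)) * h⁻¹ := by rw [Subgroup.mem_centralizer_iff.1 hv _ hx'']
      _ = h * v * h⁻¹ * x' := by group
  have hc' : (c : G)⁻¹ * x ∈ CX := mul_mem (inv_mem c.2) (E.X_le_CX hx)
  have hm : ∀ m : ℕ, (((c : G)⁻¹ * x) * h) ^ m * (h ^ m)⁻¹ ∈ CX := by
    intro m
    induction m with
    | zero => simp
    | succ m ih =>
      have := mul_mem hc' (hCXn _ ih)
      convert this using 1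
      rw [pow_succ', pow_succ']
      group
  have h5 := hm (Nat.card Hb)
  rw [← hy', orderOf_dvd_iff_pow_eq_one.1 (Subgroup.orderOf_dvd_natCard _ hh), inv_one, mul_one]
    at h5
  have hco : Nat.Coprime (Nat.card Hb) (p ^ a) := by
    refine Nat.Coprime.pow_right a (Nat.Coprime.symm (E.prime.coprime_iff_not_dvd.2 ?_))
    rw [E.card_Hb]
    intro hd
    rcases (Nat.Prime.dvd_mul E.prime).1 hd with hd | hd
    · have h6 : p ∣ p ^ n := dvd_pow_self p (by have := E.one_le; omega)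
      have h7 := Nat.dvd_sub h6 hd
      rw [show p ^ n - (p ^ n - 1) = 1 by have := E.q_ge; omega] at h7
      exact E.prime.one_lt.ne' (Nat.dvd_one.1 h7)
    · exact E.p_ndvd_d hd
  have hyCX : y ∈ CX := by
    have hb := Nat.gcd_eq_gcd_ab (Nat.card Hb) (p ^ a)
    rw [hco.gcd_eq_one, Nat.cast_one] at hb
    rw [← zpow_one y, hb, zpow_add, zpow_mul, zpow_mul, zpow_natCast, zpow_natCast, hya, one_zpow,
      mul_one]
    exact zpow_mem h5 _
  exact (IC.mem_iff y).2 ⟨hyCX, ((E.prime.coprime_iff_not_dvd.2 E.p_ndvd_d).pow_left a).of_dvd_left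
    (orderOf_dvd_of_pow_eq_one hya)⟩

end IsCore

end Cfsg.Agent.H68.UThree
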