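import Cfsg.Agent.H68.UThree.RootCore
import Cfsg.Agent.H36.OddU3.Aut

/-!
# The `t`-invariant Sylow `p`-subgroup of the centraliser of the root group has order `q ^ 3`
-/

set_option autoImplicit false
set_option linter.unusedSectionVars false
set_option linter.style.haveILetI false

namespace Cfsg.Agent.H68.UThree

open Subgroup
open scoped Pointwise

universe u

/-- The number theory: `q + 1 ∣ 3 (p ^ j - 1)` and, for `q = 5`, `8 ∣ p ^ j - 1` force `j = 2 n`. -/
theorem exponent_eq {p n j : ℕ} (hp : p.Prime) (hp2 : p ≠ 2) (hj : 1 ≤ j) (hj2 : j ≤ 2 * n)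
    (h1 : p ^ n + 1 ∣ 3 * (p ^ j - 1)) (h2 : p ^ n = 5 → 8 ∣ p ^ j - 1) : j = 2 * n := by
  have hp3 : 3 ≤ p := by have := hp.two_le; omega
  have hodd : Odd p := hp.odd_of_ne_two hp2
  have hq3 : 3 ≤ p ^ n := hp3.trans (Nat.le_self_pow (by omega) p)
  rcases lt_trichotomy j n with h | rfl | h
  · exfalso
    have h3 : p * p ^ j ≤ p ^ n := by
      rw [← pow_succ']; exact Nat.pow_le_pow_right hp.pos (by omega)
    have h4 : 3 * p ^ j ≤ p ^ n := le_trans (Nat.mul_le_mul_right _ hp3) h3
    have h5 : 3 ≤ p ^ j := hp3.trans (Nat.le_self_pow (by omega) p)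
    have := Nat.le_of_dvd (by omega) h1
    omega
  · exfalso
    have h3 : p ^ j + 1 ∣ 6 := by
      have h4 := Nat.dvd_sub (dvd_mul_left (p ^ j + 1) 3) h1
      rwa [show 3 * (p ^ j + 1) - 3 * (p ^ j - 1) = 6 by omega] at h4
    have h4 := Nat.le_of_dvd (by norm_num) h3
    have h5 : Odd (p ^ j) := hodd.pow
    obtain ⟨a, ha⟩ := h5
    have h6 : p ^ j = 3 ∨ p ^ j = 5 := by omega
    rcases h6 with h6 | h6
    · rw [h6] at h3; norm_num at h3
    · have h7 := h2 h6
      rw [h6] at h7
      norm_num at h7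
  · obtain ⟨i, rfl⟩ := Nat.exists_eq_add_of_le h.le
    suffices hi : i = n by omega
    by_contra hi
    have hi' : i < n := by omega
    have hi1 : 1 ≤ i := by omega
    have h3 : p ^ n + 1 ∣ 3 * (p ^ i + 1) := by
      have e : 3 * (p ^ (n + i) - 1) + 3 * (p ^ i + 1) = 3 * p ^ i * (p ^ n + 1) := by
        have h5 : 1 ≤ p ^ (n + i) := Nat.one_le_pow _ _ hp.pos
        rw [← Nat.mul_add, show p ^ (n + i) - 1 + (p ^ i + 1) = p ^ (n + i) + p ^ i by omega, pow_add]
        ring
      exact (Nat.dvd_add_right h1).1 (e ▸ dvd_mul_left _ _)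
    have h4 : p * p ^ i ≤ p ^ n := by
      rw [← pow_succ']; exact Nat.pow_le_pow_right hp.pos (by omega)
    have h5 : 3 * p ^ i ≤ p ^ n := le_trans (Nat.mul_le_mul_right _ hp3) h4
    obtain ⟨c, hc⟩ := h3
    have hc1 : c = 1 := by
      rcases c with _ | _ | c
      · rw [mul_zero] at hc; omega
      · rfl
      · have : (p ^ n + 1) * 2 ≤ (p ^ n + 1) * (c + 1 + 1) := Nat.mul_le_mul_left _ (by omega)
        omega
    rw [hc1, mul_one] at hc
    have h6 : p ∣ 2 := by
      have a1 : p ∣ p ^ n := dvd_pow_self p (by omega)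
      have a2 : p ∣ 3 * p ^ i := (dvd_pow_self p (by omega)).mul_left 3
      have a3 := Nat.dvd_sub a1 a2
      rwa [show p ^ n - 3 * p ^ i = 2 by omega] at a3
    have := Nat.le_of_dvd two_pos h6
    omega

variable {G : Type u} [Group G] [Finite G] [IsSimpleGroup G] {p n z d : ℕ} {t i s w : G}
  {K X Hb D : Subgroup G}

/-- The unipotent group of the Borel subgroup. -/
structure IsUnip (p n : ℕ) (t : G) (X Hb U : Subgroup G) : Prop where
  card : Nat.card U = (p ^ n) ^ 3
  le : U ≤ centralizer (X : Set G)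
  X_le : X ≤ U
  conj : ∀ h ∈ Hb, ∀ u ∈ U, h * u * h⁻¹ ∈ U
  fixed : ∀ u ∈ U, u * t = t * u → u ∈ X

namespace Cent

variable (E : Cent p n z d t i s w K X Hb D)
include E

theorem card_G_fact {j : ℕ} (hj : p ^ j ∣ Nat.card G) : j ≤ 3 * n := by
  rw [← Nat.pow_dvd_pow_iff_le_right E.prime.one_lt, mul_comm 3 n, pow_mul]
  have hq := E.q_ge
  rw [← (centralizer ({t} : Set G)).card_mul_index, E.card_C, E.index_C,
    show (p ^ n) ^ 2 - 1 = (p ^ n + 1) * (p ^ n - 1) by simpa using Nat.sq_sub_sq (p ^ n) 1,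
    show p ^ n * ((p ^ n + 1) * (p ^ n - 1)) * d * ((p ^ n) ^ 2 * ((p ^ n) ^ 2 - p ^ n + 1)) =
      (p ^ n) ^ 3 * (((p ^ n + 1) * (p ^ n - 1)) * d * ((p ^ n) ^ 2 - p ^ n + 1)) by ring] at hj
  refine Nat.Coprime.dvd_of_dvd_mul_right (Nat.Coprime.pow_left j
    (E.prime.coprime_iff_not_dvd.2 fun h => ?_)) hj
  have hp : p ∣ p ^ n := dvd_pow_self p (by have := E.one_le; omega)
  rcases (Nat.Prime.dvd_mul E.prime).1 h with h | h
  · rcases (Nat.Prime.dvd_mul E.prime).1 h with h | h
    · rcases (Nat.Prime.dvd_mul E.prime).1 h with h | h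
      · exact E.prime.one_lt.ne' (Nat.dvd_one.1 ((Nat.dvd_add_right hp).1 h))
      · have h7 := Nat.dvd_sub hp h
        rw [show p ^ n - (p ^ n - 1) = 1 by omega] at h7
        exact E.prime.one_lt.ne' (Nat.dvd_one.1 h7)
    · exact E.p_ndvd_d h
  · have h8 : p ∣ (p ^ n) ^ 2 - p ^ n :=
      Nat.dvd_sub (dvd_pow hp two_ne_zero) hp
    exact E.prime.one_lt.ne' (Nat.dvd_one.1 ((Nat.dvd_add_right h8).1 h))

theorem card_G_dvd : (p ^ n) ^ 3 ∣ Nat.card G := by
  rw [← (centralizer ({t} : Set G)).card_mul_index, E.card_C, E.index_C]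
  exact ⟨((p ^ n) ^ 2 - 1) * d * ((p ^ n) ^ 2 - p ^ n + 1), by ring⟩

/-- **Existence.** -/
theorem exists_unip (hz : z ∣ 3) : ∃ U, IsUnip p n t X Hb U := by
  classical
  haveI := Fact.mk E.prime
  obtain ⟨O, IC⟩ := E.exists_core
  have htt := E.tt
  have htinv : t⁻¹ = t := inv_eq_of_mul_eq_one_left htt
  have htX : ∀ x ∈ X, t * x * t⁻¹ ∈ X := fun x hx => by
    rw [← mem_cent.1 (E.X_le hx), mul_inv_cancel_right]; exact hx
  -- conjugation by `t` on the core
  let θ : MulAut O :=
    { toFun := fun y => ⟨t * y * t⁻¹, IC.conj_mem E htX y.2⟩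
      invFun := fun y => ⟨t * y * t⁻¹, IC.conj_mem E htX y.2⟩
      left_inv := fun y => Subtype.ext (by simp [htinv, mul_assoc, E.tt]; rw [← mul_assoc, E.tt, one_mul])
      right_inv := fun y => Subtype.ext (by simp [htinv, mul_assoc, E.tt]; rw [← mul_assoc, E.tt, one_mul])
      map_mul' := fun y v => Subtype.ext (by simp [mul_assoc]) }
  have hθ2 : θ * θ = 1 := MulEquiv.ext fun y => Subtype.ext (by
    show t * (t * y * t⁻¹) * t⁻¹ = y
    rw [htinv]
    calc t * (t * (y : G) * t) * t = (t * t) * y * (t * t) := by group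
      _ = y := by rw [E.tt, one_mul, mul_one])
  haveI : Fintype (Sylow p O) := Fintype.ofFinite _
  have hodd : ¬ 2 ∣ Fintype.card (Sylow p O) := by
    intro h
    rw [← Nat.card_eq_fintype_card] at h
    obtain ⟨Q⟩ := (inferInstance : Nonempty (Sylow p O))
    exact (IC.card_odd E).not_two_dvd_nat
      ((h.trans Q.card_dvd_index).trans (Subgroup.index_dvd_card _))
  haveI := Fact.mk Nat.prime_two
  obtain ⟨P, hP⟩ := Equiv.Perm.exists_fixed_point_of_prime (p := 2) (n := 1) hodd
    (σ := MulAction.toPerm θ) (Equiv.ext fun Q => by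
      show θ • (θ • Q) = Q
      rw [smul_smul, hθ2, one_smul])
  replace hP : θ • P = P := hP
  set U := (P : Subgroup O).map O.subtype with hU
  have hUO : U ≤ O := Subgroup.map_subtype_le _
  have hUt : ∀ u ∈ U, t * u * t⁻¹ ∈ U := by
    rintro _ ⟨y, hy, rfl⟩
    refine ⟨θ y, ?_, rfl⟩
    rw [← hP]
    exact ⟨y, hy, rfl⟩
  -- `X` lies in every Sylow subgroup
  have hXn : (X.subgroupOf O).Normal := ⟨fun x hx g => by
    rw [Subgroup.mem_subgroupOf] at hx ⊢
    simp only [Subgroup.coe_mul, InvMemClass.coe_inv]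
    rw [← Subgroup.mem_centralizer_iff.1 (IC.le g.2) _ hx, mul_inv_cancel_right]
    exact hx⟩
  have hXp : IsPGroup p (X.subgroupOf O) := IsPGroup.of_card (n := n) (by
    rw [Nat.card_congr (Subgroup.subgroupOfEquivOfLe (IC.X_le E)).toEquiv, E.card_X])
  have hXQ : ∀ Q : Sylow p O, X.subgroupOf O ≤ Q := by
    intro Q x hx
    obtain ⟨Q₀, hQ₀⟩ := IsPGroup.exists_le_sylow hXp
    obtain ⟨g, rfl⟩ := MulAction.exists_smul_eq O Q₀ Q
    exact ⟨g⁻¹ * x * g, hQ₀ (by simpa using hXn.conj_mem x hx g⁻¹), by simp [mul_assoc]⟩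
  have hXU : X ≤ U := fun x hx => ⟨⟨x, IC.X_le E hx⟩, hXQ P hx, rfl⟩
  have hUp : IsPGroup p U := P.isPGroup'.map _
  obtain ⟨m, hm⟩ := IsPGroup.iff_card.1 hUp
  have hfix : ∀ u ∈ U, u * t = t * u → u ∈ X := fun u hu he =>
    IC.inter_C E (hUO hu) (mem_cent.2 he)
  -- `U` is larger than `X`
  have hnm : n < m := by
    obtain ⟨S0, hS0⟩ := (IsPGroup.of_card (G := X) (n := n) E.card_X).exists_le_sylow (p := p)
    have hlt : X < (S0 : Subgroup G) := by
      refine lt_of_le_of_ne hS0 fun e => ?_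
      have h1 : (p ^ n) ^ 3 ∣ Nat.card (S0 : Subgroup G) := by
        rw [← pow_mul]; exact S0.pow_dvd_card_of_pow_dvd_card (pow_mul p n 3 ▸ E.card_G_dvd)
      rw [← e, E.card_X] at h1
      have h2 := Nat.le_of_dvd (by have := E.q_ge; omega) h1
      have h3 : (p ^ n) * 2 ≤ (p ^ n) ^ 3 := by
        have hq := E.q_ge
        calc (p ^ n) * 2 ≤ p ^ n * (p ^ n * p ^ n) :=
              Nat.mul_le_mul_left _ (le_trans (by omega) (Nat.le_mul_self _))
          _ = (p ^ n) ^ 3 := by ring
      have hq := E.q_ge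
      omega
    haveI : Group.IsNilpotent (S0 : Subgroup G) := S0.isPGroup'.isNilpotent
    obtain ⟨y, hyN, hyA⟩ := SetLike.exists_of_lt
      (Group.normalizerCondition_of_isNilpotent (X.subgroupOf (S0 : Subgroup G))
        (lt_top_iff_ne_top.mpr fun h => hlt.not_ge fun g hg => by
          have : (⟨g, hg⟩ : (S0 : Subgroup G)) ∈ X.subgroupOf (S0 : Subgroup G) := h ▸ mem_top _
          exact this))
    obtain ⟨a, ha⟩ := S0.isPGroup' y
    have hya : (y : G) ^ p ^ a = 1 := by simpa using congrArg Subtype.val ha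
    have hyX : ∀ x ∈ X, (y : G) * x * (y : G)⁻¹ ∈ X := fun x hx =>
      (mem_normalizer_iff.mp hyN ⟨x, hS0 hx⟩).mp hx
    have hyO := IC.mem_of_normalizes E hyX hya
    obtain ⟨Q, hQ⟩ := (show IsPGroup p (zpowers (⟨y, hyO⟩ : O)) from
      IsPGroup.of_card (n := (orderOf (y : G)).factorization p) (by
        rw [Nat.card_zpowers, Subgroup.orderOf_mk]
        obtain ⟨a', -, ha'⟩ := (Nat.dvd_prime_pow E.prime).1 (orderOf_dvd_of_pow_eq_one hya)
        rw [ha', E.prime.factorization_pow, Finsupp.single_eq_same])).exists_le_sylow (p := p)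
    have hlt' : X.subgroupOf O < (Q : Subgroup O) := lt_of_le_of_ne (hXQ Q) fun e => hyA (by
      have : (⟨y, hyO⟩ : O) ∈ X.subgroupOf O := e ▸ hQ (mem_zpowers _)
      exact this)
    have hcards : Nat.card X < Nat.card U := by
      rw [hU, Subgroup.card_map_of_injective O.subtype_injective, P.card_eq_multiplicity,
        ← Q.card_eq_multiplicity, ← Nat.card_congr (Subgroup.subgroupOfEquivOfLe (IC.X_le E)).toEquiv]
      exact lt_of_not_ge fun h => hlt'.ne (Subgroup.eq_of_le_of_card_ge hlt'.le h)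
    rw [E.card_X, hm] at hcards
    exact (Nat.pow_lt_pow_iff_right E.prime.one_lt).1 hcards
  have hm3 : m ≤ 3 * n := E.card_G_fact (hm ▸ Subgroup.card_subgroup_dvd_card U)
  -- uniqueness gives invariance under `Hb`
  have huniq : ∀ g : G, (∀ x ∈ X, g * x * g⁻¹ ∈ X) → g * t = t * g →
      ∀ u ∈ U, g * u * g⁻¹ ∈ U := by
    intro g hgX hgt
    let γ : MulAut O :=
      MulEquiv.ofBijective
        ({ toFun := fun y => ⟨g * y * g⁻¹, IC.conj_mem E hgX y.2⟩
           map_one' := Subtype.ext (by simp)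
           map_mul' := fun y v => Subtype.ext (by simp [mul_assoc]) } : O →* O)
        ((Finite.injective_iff_bijective).1 fun y v h => by
          have := congrArg Subtype.val h
          exact Subtype.ext (mul_left_cancel (mul_right_cancel this)))
    have hγt : θ * γ = γ * θ := MulEquiv.ext fun y => Subtype.ext (by
      show t * (g * y * g⁻¹) * t⁻¹ = g * (t * y * t⁻¹) * g⁻¹
      calc t * (g * (y : G) * g⁻¹) * t⁻¹ = (t * g) * y * (t * g)⁻¹ := by group
        _ = (g * t) * y * (g * t)⁻¹ := by rw [hgt]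
        _ = g * (t * y * t⁻¹) * g⁻¹ := by group)
    have hP' : θ • (γ • P) = γ • P := by rw [smul_smul, hγt, ← smul_smul, hP]
    obtain ⟨c, hc⟩ := MulAction.exists_smul_eq O P (γ • P)
    -- `θ c = c v` with `v` normalising `P`
    set v := c⁻¹ * θ c with hv
    have hθconj : ∀ (a : O) (Q : Sylow p O), θ • (a • Q) = θ a • (θ • Q) := by
      intro a Q
      rw [Sylow.smul_def, Sylow.smul_def, smul_smul, smul_smul]
      congr 1
      exact MulEquiv.ext fun y => by simp
    have hvP : v • P = P := by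
      have h1 : θ c • P = c • P := by
        rw [hc]; nth_rewrite 1 [← hP]; rw [← hθconj, hc, hP']
      rw [hv, mul_smul, h1, inv_smul_smul]
    have hθθ : ∀ a : O, θ (θ a) = a := fun a => congrArg (fun f : MulAut O => f a) hθ2
    have hθv : θ v = v⁻¹ := by rw [hv, map_mul, map_inv, hθθ, mul_inv_rev, inv_inv]
    obtain ⟨r, hr⟩ := H92.exists_sqrt_mem (G := O) (K := ⊤)
      (by rw [Subgroup.card_top]; exact IC.card_odd E) (mem_top v)
    set c' := c * v ^ r with hc'
    have hfixc : θ c' = c' := by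
      have e1 : θ c = c * v := by rw [hv, mul_inv_cancel_left]
      rw [hc', map_mul, map_pow, hθv, e1, inv_pow]
      nth_rewrite 1 [← hr]
      rw [mul_assoc, mul_assoc, mul_inv_cancel, mul_one]
    have hc'X : (c' : G) ∈ X := IC.inter_C E c'.2 (by
      have h := congrArg Subtype.val hfixc
      rw [mem_cent]
      exact (mul_inv_eq_iff_eq_mul.1 h).symm)
    have hsame : γ • P = P := by
      rw [← hc]
      have h1 : c' • P = c • P := by
        rw [hc', mul_smul]
        congr 1
        exact MulAction.mem_stabilizer_iff.1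
          (Subgroup.pow_mem _ (MulAction.mem_stabilizer_iff.2 hvP) r)
      rw [← h1, Sylow.smul_eq_iff_mem_normalizer]
      exact Subgroup.le_normalizer (hXQ P hc'X)
    rintro _ ⟨y, hy, rfl⟩
    refine ⟨γ y, ?_, rfl⟩
    rw [← hsame]
    exact ⟨y, hy, rfl⟩
  refine ⟨U, ?_, fun u hu => IC.le (hUO hu), hXU, fun h hh => huniq h (E.Hb_X h hh)
    (mem_cent.1 (E.Hb_le hh)), hfix⟩
  -- free action
  have hfree : ∀ A : Subgroup G, A ≤ Hb → (∀ a ∈ A, a ≠ 1 → ∀ u ∈ U, a * u * a⁻¹ = u → u ∈ X) →
      Nat.card A ∣ p ^ m - p ^ n := by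
    intro A hA hAfix
    have hmem : ∀ a ∈ A, ∀ u ∈ U, a * u * a⁻¹ ∈ U :=
      fun a ha => huniq a (E.Hb_X a (hA ha)) (mem_cent.1 (E.Hb_le (hA ha)))
    have hnot : ∀ a ∈ A, ∀ u : G, u ∉ X → a * u * a⁻¹ ∉ X := by
      intro a ha u hu h
      have := E.Hb_X a⁻¹ (inv_mem (hA ha)) _ h
      exact hu (by simpa [mul_assoc] using this)
    letI : MulAction A {u : U // (u : G) ∉ X} :=
      { smul := fun a u => ⟨⟨a * u.1 * (a : G)⁻¹, hmem a a.2 _ u.1.2⟩, hnot a a.2 _ u.2⟩
        one_smul := fun u => Subtype.ext (Subtype.ext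
          (show (1 : G) * u.1 * (1 : G)⁻¹ = u.1 by simp))
        mul_smul := fun a c u => Subtype.ext (Subtype.ext (show ((a : G) * c) * u.1 * ((a : G) * c)⁻¹
          = (a : G) * ((c : G) * u.1 * (c : G)⁻¹) * (a : G)⁻¹ by group)) }
    have hcard : Nat.card {u : U // (u : G) ∉ X} = p ^ m - p ^ n := by
      haveI := Fintype.ofFinite U
      have e : Nat.card {u : U // (u : G) ∈ X} = p ^ n := by
        rw [← E.card_X]
        exact Nat.card_congr
          { toFun := fun u => ⟨u.1, u.2⟩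
            invFun := fun x => ⟨⟨x, hXU x.2⟩, x.2⟩
            left_inv := fun _ => rfl
            right_inv := fun _ => rfl }
      rw [Nat.card_eq_fintype_card, Fintype.card_subtype_compl, ← Nat.card_eq_fintype_card,
        ← Nat.card_eq_fintype_card, e, hm]
    rw [← hcard]
    refine H36.OddU3.card_dvd_of_free_action fun a u hau => ?_
    by_contra ha
    exact u.2 (hAfix a a.2 (fun e => ha (Subtype.ext e)) _ u.1.2
      (congrArg (fun v : {u : U // (u : G) ∉ X} => ((v : U) : G)) hau))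
  have hco : ∀ {e : ℕ}, Nat.Coprime e p → e ∣ p ^ m - p ^ n → e ∣ p ^ (m - n) - 1 := by
    intro e he h
    rw [show p ^ m - p ^ n = p ^ n * (p ^ (m - n) - 1) by
      rw [Nat.mul_sub, ← pow_add, mul_one, Nat.add_sub_cancel' hnm.le]] at h
    exact (he.pow_right n).dvd_of_dvd_mul_left h
  have hpd : Nat.Coprime d p := (E.prime.coprime_iff_not_dvd.2 E.p_ndvd_d).symm
  have hKd := hfree K E.K_Hb fun k hk hk1 u hu he => by
    refine hfix u hu ?_
    have h1 : u ∈ centralizer ({k} : Set G) := mem_cent.2 (mul_inv_eq_iff_eq_mul.1 he).symm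
    rw [E.cent_K hk hk1, mem_cent] at h1
    exact h1
  rw [E.card_K] at hKd
  have hj : m - n = 2 * n := by
    refine exponent_eq E.prime E.odd (by omega) (by omega) ?_ ?_
    · rw [← E.zd]
      exact Nat.mul_dvd_mul hz (hco hpd hKd)
    · intro h5
      have h8 : 8 ∣ Nat.card Hb := by
        rw [E.card_Hb, h5]
        have hzd := E.zd
        rw [h5] at hzd
        rcases (Nat.dvd_prime Nat.prime_three).1 hz with rfl | rfl
        · rw [show d = 6 by omega]; norm_num
        · rw [show d = 2 by omega]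
      haveI := E.Hb_cyclic
      obtain ⟨g, hg⟩ := IsCyclic.exists_ofOrder_eq_natCard (α := Hb)
      set h := g ^ (Nat.card Hb / 8) with hh
      have hord : orderOf h = 8 := by
        rw [hh, orderOf_pow_of_dvd (Nat.div_pos (Nat.le_of_dvd Nat.card_pos h8) (by norm_num)).ne'
          (by rw [hg]; exact Nat.div_dvd_of_dvd h8), hg, Nat.div_div_self h8 Nat.card_pos.ne']
      have hpow : ∀ y : Hb, orderOf y = 2 → (y : G) = t := by
        intro y hy
        haveI : Fintype Hb := Fintype.ofFinite Hb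
        let tH : Hb := ⟨t, E.K_Hb E.t_K⟩
        by_contra hne
        have h3 : ({1, y, tH} : Finset Hb).card ≤ 2 := le_trans
          (Finset.card_le_card fun a ha => by
            simp only [Finset.mem_insert, Finset.mem_singleton] at ha
            rw [Finset.mem_filter]
            refine ⟨Finset.mem_univ _, ?_⟩
            rcases ha with rfl | rfl | rfl
            · exact one_pow _
            · rw [← hy]; exact pow_orderOf_eq_one _
            · exact Subtype.ext (by simpa [pow_two] using E.tt))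
          (IsCyclic.card_pow_eq_one_le (α := Hb) (n := 2) (by norm_num))
        rw [Finset.card_eq_three.2 ⟨1, y, tH, ?_, ?_, ?_, rfl⟩] at h3
        · omega
        · exact fun e => by rw [← e, orderOf_one] at hy; omega
        · exact fun e => by
            have h4 := E.ht
            rw [show t = 1 from (congrArg Subtype.val e).symm, orderOf_one] at h4
            omega
        · exact fun e => hne (congrArg Subtype.val e)
      have h8' := hfree (zpowers (h : G)) (by rw [zpowers_le]; exact h.2) fun a ha ha1 u hu he => by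
        refine hfix u hu ?_
        -- a power of `a` is `t`
        obtain ⟨a', ha', e⟩ : ∃ a' : Hb, a' ∈ zpowers h ∧ (a' : G) = a := by
          obtain ⟨k, hk⟩ := mem_zpowers_iff.1 ha
          exact ⟨h ^ k, zpow_mem (mem_zpowers h) k, by simpa using hk⟩
        have hdvd : orderOf a' ∣ 8 := hord ▸ orderOf_dvd_of_mem_zpowers ha'
        have hne : orderOf a' ≠ 1 := fun h1 =>
          ha1 (by rw [← e, orderOf_eq_one_iff.1 h1]; rfl)
        obtain ⟨k, -, hk⟩ := (Nat.dvd_prime_pow Nat.prime_two).1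
          (show orderOf a' ∣ 2 ^ 3 by norm_num; exact hdvd)
        have hk1 : 1 ≤ k := by
          rcases Nat.eq_zero_or_pos k with rfl | hk1
          · exact absurd hk hne
          · exact hk1
        have hinv : orderOf (a' ^ 2 ^ (k - 1)) = 2 := by
          rw [orderOf_pow_of_dvd (by positivity) (by rw [hk]; exact pow_dvd_pow 2 (by omega)), hk,
            Nat.pow_div (by omega) two_pos, show k - (k - 1) = 1 by omega, pow_one]
        have htp := hpow _ hinv
        rw [SubgroupClass.coe_pow, e] at htp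
        rw [← htp]
        exact ((show Commute a u from mul_inv_eq_iff_eq_mul.1 he).pow_left _).eq.symm
      rw [Nat.card_zpowers, Subgroup.orderOf_coe, hord] at h8'
      refine hco ?_ h8'
      exact Nat.Coprime.pow_left 3 ((Nat.coprime_primes Nat.prime_two E.prime).2 (Ne.symm E.odd))
  rw [hm, ← pow_mul]
  congr 1
  omega

end Cent

end Cfsg.Agent.H68.UThree
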